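import Cfsg.Agent.MxE.F

/-! Inverting automorphisms of essential subgroups and a focal-subgroup argument (helper26). -/

set_option autoImplicit false

namespace Cfsg.Agent.Fus

open Subgroup Cfsg Cfsg.Agent.Loc Equiv
open Cfsg.FusionSystem (normalizerIn centralizerIn)
open scoped commutatorElement

universe u
variable {Ω : Type u} [Group Ω] {S P Q R E W Z B C M : Subgroup Ω} {p : ℕ} {F : FusionSystem S} {a g σ : Perm Ω}
  {x y : Ω}

theorem p5_mu (hn : P ≤ normalizer (W : Set Ω)) (hD : ⁅P, P⁆ ≤ W) :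
    ∃ (V : Type u) (_ : CommGroup V) (μ : Ω → V), HomOn μ P ∧ ∀ x ∈ P, μ x = 1 ↔ x ∈ W := by
  haveI := normal_subgroupOf_of_le_normalizer hn
  refine ⟨P ⧸ W.subgroupOf P, { (inferInstance : Group (P ⧸ W.subgroupOf P)) with mul_comm := fun a b => ?_ },
    ext1 (QuotientGroup.mk' _), homOn_ext1 _, fun x hx => ?_⟩
  · obtain ⟨a, rfl⟩ := QuotientGroup.mk_surjective a
    obtain ⟨b, rfl⟩ := QuotientGroup.mk_surjective b
    exact commutatorElement_eq_one_iff_mul_comm.1 ((QuotientGroup.eq_one_iff ⁅a, b⁆).2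
      (hD (commutator_mem_commutator a.2 b.2)))
  · rw [ext1_apply _ hx]; exact QuotientGroup.eq_one_iff _

theorem p5_cen [Finite P] [Fact p.Prime] (hP : IsPGroup p P) (hW : P ≤ normalizer (W : Set Ω))
    (hB : P ≤ normalizer (B : Set Ω)) (hBP : B ≤ P) (h : ¬ B ≤ W) : ∃ x ∈ B, x ∉ W ∧ x ^ p ∈ W ∧ ∀ g ∈ P, ⁅x, g⁆ ∈ W := by
  haveI := normal_subgroupOf_of_le_normalizer hW
  haveI := normal_subgroupOf_of_le_normalizer hB
  obtain ⟨x, h1, h2, h3, h4⟩ := PGrp.exists_central_mod_pow hP (M := W.subgroupOf P) (N := B.subgroupOf P)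
    fun k => h fun y hy => k (show (⟨y, hBP hy⟩ : P) ∈ B.subgroupOf P from hy)
  exact ⟨x, h1, h2, h3, fun g hg => h4 ⟨g, hg⟩⟩

variable [hp : Fact p.Prime]

theorem p5_sq (h2 : p ≠ 2) [Finite P] (hP : IsPGroup p P) (hx : x ∈ P) (h : x * x ∈ M) : x ∈ M := by
  obtain ⟨k, hk⟩ := exists_pow_of_isPGroup hP hx
  obtain ⟨j, hj⟩ := (hp.out.odd_of_ne_two h2).pow (n := k)
  rw [hj, pow_succ, pow_mul, sq, mul_eq_one_iff_inv_eq] at hk
  exact hk ▸ inv_mem (pow_mem h j)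

theorem p5_neg {V : Type*} [CommGroup V] {μ : Ω → V} (hμ : HomOn μ R)
    {A : Subgroup (Perm Ω)} (hA : A ≤ AutOn R) (hD : ∀ a ∈ A, ∀ x ∈ R, μ x = 1 → μ (a x) = 1)
    {τ τ' : Perm Ω} (hτ : τ ∈ A) (hτ' : τ' ∈ A) {z w : Ω} (hz : z ∈ R) (hw : w ∈ R) (e : μ z ^ p = 1) (e' : μ w ^ p = 1)
    (h1 : μ (τ z) = μ z) (h2 : μ (w⁻¹ * τ w) ∈ zpowers (μ z)) (h3 : μ (w⁻¹ * τ w) ≠ 1)
    (h1' : μ (τ' w) = μ w) (h2' : μ (z⁻¹ * τ' z) ∈ zpowers (μ w)) (h3' : μ (z⁻¹ * τ' z) ≠ 1) :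
    ∃ σ ∈ A, μ (σ z) = (μ z)⁻¹ ∧ μ (σ w) = (μ w)⁻¹ := by
  have H : ∀ a ∈ A, HomOn a R := fun a ha => (mem_AutOn.1 (hA ha)).1
  have M : ∀ a ∈ A, ∀ x ∈ R, a x ∈ R := fun a ha x hx => Maps.mem (AutOn_le_Stab R (hA ha)) hx
  have K : ∀ a ∈ A, ∀ {x y z : Ω} {i j : ℤ}, x ∈ R → y ∈ R → z ∈ R → μ x = μ y ^ i * μ z ^ j →
      μ (a x) = μ (a y) ^ i * μ (a z) ^ j := fun a ha x y z i j hx hy hz k => by
    have k1 := mul_mem (zpow_mem hy i) (zpow_mem hz j)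
    have := hD a ha _ (mul_mem (inv_mem k1) hx) (by
      rw [hμ.map_inv_mul k1 hx, hμ _ (zpow_mem hy i) _ (zpow_mem hz j), hμ.map_zpow hy, hμ.map_zpow hz, k, inv_mul_cancel])
    rw [(H a ha).map_inv_mul k1 hx, hμ.map_inv_mul (M a ha _ k1) (M a ha _ hx), inv_mul_eq_one,
      H a ha _ (zpow_mem hy i) _ (zpow_mem hz j), (H a ha).map_zpow hy, (H a ha).map_zpow hz,
      hμ _ (zpow_mem (M a ha _ hy) i) _ (zpow_mem (M a ha _ hz) j), hμ.map_zpow (M a ha _ hy),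
      hμ.map_zpow (M a ha _ hz)] at this
    exact this.symm
  have key : ∀ τ ∈ A, ∀ z ∈ R, ∀ w ∈ R, μ z ^ p = 1 → μ (τ z) = μ z → μ (w⁻¹ * τ w) ∈ zpowers (μ z) →
      μ (w⁻¹ * τ w) ≠ 1 → ∀ i : ℤ, ∃ ρ ∈ A, μ (ρ z) = μ z ∧ μ (ρ w) = μ w * μ z ^ i := fun τ hτ z hz w hw e h1 h2 h3 i => by
    obtain ⟨k, hk⟩ := mem_zpowers_iff.1 h2
    have fo : IsOfFinOrder (μ z ^ k) := (isOfFinOrder_iff_pow_eq_one.2 ⟨p, hp.out.pos, e⟩).zpow
    obtain ⟨n, hn⟩ := fo.mem_powers_iff_mem_zpowers.2 (hk ▸ (zpowers_eq_of_mem e h2 h3).ge (zpow_mem_zpowers _ i))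
    rw [hμ.map_inv_mul hw (M τ hτ w hw), eq_inv_mul_iff_mul_eq] at hk
    refine ⟨τ ^ n, pow_mem hτ n, ?_⟩
    simp only at hn
    rw [← hn]
    clear hn
    induction n with
    | zero => simp
    | succ n ih =>
      rw [pow_succ, Perm.mul_apply, Perm.mul_apply, K _ (pow_mem hτ n) (i := 1) (j := 0) (M τ hτ z hz) hz hz (by simpa using h1),
        K _ (pow_mem hτ n) (i := 1) (j := k) (M τ hτ w hw) hw hz (by simpa using hk.symm), ih.1, ih.2]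
      simp [pow_succ, mul_assoc]
  obtain ⟨u, hu, u1, u2⟩ := key τ hτ z hz w hw e h1 h2 h3 1
  obtain ⟨t, ht, t1, t2⟩ := key τ' hτ' w hw z hz e' h1' h2' h3' (-1)
  have hs := mul_mem (mul_mem hu ht) hu
  have s1 : μ ((u * t * u) z) = (μ w)⁻¹ := by
    rw [Perm.mul_apply, K _ (mul_mem hu ht) (i := 1) (j := 0) (M u hu z hz) hz hz (by simpa using u1), Perm.mul_apply,
      K u hu (i := 1) (j := -1) (M t ht z hz) hz hw (by simpa using t2), u1, u2]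
    simp
  have s2 : μ ((u * t * u) w) = μ z := by
    rw [Perm.mul_apply, K _ (mul_mem hu ht) (i := 1) (j := 1) (M u hu w hw) hw hz (by simpa using u2), Perm.mul_apply,
      Perm.mul_apply, K u hu (i := 1) (j := 0) (M t ht w hw) hw hw (by simpa using t1),
      K u hu (i := 1) (j := -1) (M t ht z hz) hz hw (by simpa using t2), u1, u2]
    simp
  refine ⟨_, mul_mem hs hs, ?_, ?_⟩
  · rw [Perm.mul_apply, K _ hs (i := -1) (j := 0) (M _ hs z hz) hw hw (by simpa using s1), s2]; simp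
  · rw [Perm.mul_apply, K _ hs (i := 1) (j := 0) (M _ hs w hw) hz hz (by simpa using s2), s1]; simp

/-- weights: from one generator of a section of order `p` to all elements -/
theorem p5_wt (hi : B.relIndex C ∣ p) (h : B ≤ C) (hn : C ≤ normalizer (B : Set Ω)) (G : HomOn g C) (m1 : Maps g B B)
    (hx : x ∈ C) (hx' : x ∉ B) {i : ℤ} (e : (x ^ i)⁻¹ * g x ∈ B) (hy : y ∈ C) : (y ^ i)⁻¹ * g y ∈ B := by
  have hg : g x ∈ C := (mul_mem_cancel_left (inv_mem (zpow_mem hx i))).1 (h e)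
  have e1 := sup_zpowers_of_relIndex hi h hx hx'
  obtain ⟨V, _, μ, hμ, K⟩ := p5_mu hn (W := B) (by
    have n2 := (zpowers_le.2 hx).trans hn
    have k : ⁅C, B⁆ ≤ B := commutator_le.2 fun a ha b hb => comm_mem_of_normalizer (hn ha) hb
    nth_rewrite 2 [← e1]
    refine commutator_sup_right_le le_normalizer n2 k ?_
    rw [← e1]
    exact commutator_sup_left_le le_normalizer n2 ((commutator_comm_le _ _).trans ((commutator_mono (zpowers_le.2 hx)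
      le_rfl).trans k)) (commutator_le_of_le_centralizer (le_centralizer_iff_isMulCommutative.2 inferInstance) _))
  obtain ⟨b, hb, j, rfl⟩ := exists_mul_zpow hi h hn hx hx' hy
  have k1 := zpow_mem hx j
  have k2 := h (m1.mem hb)
  rw [← K _ (h e), hμ.map_inv_mul (zpow_mem hx i) hg, inv_mul_eq_one, hμ.map_zpow hx] at e
  rw [G b (h hb) _ k1, G.map_zpow hx, ← K _ (mul_mem (inv_mem (zpow_mem hy i)) (mul_mem k2 (zpow_mem hg j))),
    hμ.map_inv_mul (zpow_mem hy i) (mul_mem k2 (zpow_mem hg j)), hμ.map_zpow hy, hμ _ (h hb) _ k1, hμ _ k2 _ (zpow_mem hg j),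
    (K b (h hb)).2 hb, (K _ k2).2 (m1.mem hb), hμ.map_zpow hx, hμ.map_zpow hg, ← e, one_mul, one_mul, ← zpow_mul, ← zpow_mul,
    mul_comm j, inv_mul_cancel]

variable [Finite S]

theorem Es.neg2 (e : Es F p E) (sZ : AutF F E ≤ Stab Z) (hZ : Z ≤ E) (h0 : Phi E ≤ Z) (i1 : Z.relIndex E ∣ p ^ 2)
    (i0 : (Phi E).relIndex Z ∣ p) :
    ∃ σ ∈ AutF F E, (∀ y ∈ E, y * σ y ∈ Z) ∧ cj σ (AutK S E) ≤ AutK S E := by
  have := e.finite
  have := finite_of_le hZ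
  have hN := le_NS e.le
  have nE := le_normalizer_of_Phi_le e.pg h0 hZ
  have nZ : normalizerIn S E ≤ normalizer (Z : Set Ω) := fun s hs =>
    maps_cp_iff.1 ((sZ (e.cr_mem hs) : Maps _ Z Z).congr fun x hx => (cr_apply hs.2 (hZ hx)).symm)
  obtain ⟨t, ht, ht'⟩ := e.exists_t
  have tP : ∀ s ∈ normalizerIn S E, Tv (cr E s) (Phi E) Z := fun s hs => e.tv_cr hs hZ
    (AutOn_le_Stab_Phi E (AutF_le_AutOn F E (e.cr_mem hs))) (sZ (e.cr_mem hs))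
    (hZ.trans (le_normalizer_of_Phi_le e.pg le_rfl (Phi_le E))) i0
  have nt : ¬ Tv (cr E t) Z E := fun k => ht' (e.chain2 ht hZ sZ k (tP t ht))
  obtain ⟨y, hy, hy', hyp, hyc⟩ := p5_cen (e.sat.pg.to_le (NS_le S E)) nZ (NS_le_normalizer S E) hN
    fun k => nt ((tv_of_maps (maps_of_AutF (e.cr_mem ht))).mono k le_rfl)
  have hB : Z ⊔ zpowers y ≤ E := sup_le hZ (zpowers_le.2 hy)
  have := finite_of_le hB
  have j1 := (PGrp.relIndex_sup_zpowers hp.out (nE hy) hy' hyp).dvd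
  have j2 := relIndex_dvd_right i1 le_sup_left hB fun k => hy' (k.le (mem_sup_right (mem_zpowers y)))
  have nB := le_normalizer_of_Phi_le e.pg (h0.trans le_sup_left) hB
  have sB : ∀ a ∈ AutF F E, a y ∈ Z ⊔ zpowers y → Maps a (Z ⊔ zpowers y) (Z ⊔ zpowers y) := fun a ha k =>
    ((homOn_of_AutF ha).mono hB).maps_self (HomOn.mem_of_sup ((homOn_of_AutF ha).mono hB)
      (fun u hu => mem_sup_left (Maps.mem (sZ ha) hu)) (by
        rintro _ ⟨i, rfl⟩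
        rw [(homOn_of_AutF ha).map_zpow hy]; exact zpow_mem k i))
  have t0 : ∀ s ∈ normalizerIn S E, Tv (cr E s) Z (Z ⊔ zpowers y) := fun s hs => tv_cr_of_comm hs.2 hB fun c hc =>
    commutator_le.1 (commutator_sup_right_le (C := zpowers s) le_normalizer ((zpowers_le.2 hy).trans nE)
      (commutator_le.2 fun a ha b hb => comm_mem_of_normalizer (nZ (zpowers_le.2 hs ha)) hb)
      (commutator_zpowers_right_le (nE hy) fun c hc => comm_mem_symm (hyc c (zpowers_le.2 hs hc)))) s (mem_zpowers s) c hc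
  have mB : ∀ s ∈ normalizerIn S E, Maps (cr E s) (Z ⊔ zpowers y) (Z ⊔ zpowers y) := fun s hs =>
    (((t0 s hs).mono le_sup_left le_rfl).maps ((homOn_of_AutF (e.cr_mem hs)).mono hB) le_rfl)
  have t1 : ∀ s ∈ normalizerIn S E, Tv (cr E s) (Z ⊔ zpowers y) E := fun s hs =>
    e.tv_cr hs le_rfl (mB s hs) (maps_of_AutF (e.cr_mem hs)) nB j2
  have yB : y ∈ Z ⊔ zpowers y := mem_sup_right (mem_zpowers y)
  obtain ⟨g, hg, hg'⟩ : ∃ g ∈ AutF F E, g y ∉ Z ⊔ zpowers y := by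
    by_contra! c
    exact e.no_flag h0 le_sup_left hB sZ (fun a ha => sB a ha (c a ha)) i0 j1 j2
  have G := homOn_of_AutF hg
  have hτ := e.cr_mem ht
  have hw := (maps_of_AutF hg).mem hy
  have hv := (maps_of_AutF hg).inv_mem hy
  have hv' : g⁻¹ y ∉ Z ⊔ zpowers y := fun c => hg' ((sB _ (inv_mem hg) c).symm.mem yB)
  have T : ∀ u ∈ E, u ∉ Z ⊔ zpowers y → u⁻¹ * cr E t u ∉ Z := fun u h1 h2 c => nt (by
    have k := sup_zpowers_of_relIndex j2 hB h1 h2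
    have := Tv.sup (t0 t ht) (Tv.zpowers c ((homOn_of_AutF hτ).mono (zpowers_le.2 h1)) (nE h1))
      (k.symm ▸ homOn_of_AutF hτ) ((zpowers_le.2 h1).trans nE) (hB.trans nE)
    rwa [k] at this)
  obtain ⟨V, _, μ, hμ, K⟩ := p5_mu nE ((commutator_le_Phi e.pg).trans h0)
  have hτv := (maps_of_AutF hτ).mem hv
  have e1 : y⁻¹ * (g * cr E t * g⁻¹) y = g ((g⁻¹ y)⁻¹ * cr E t (g⁻¹ y)) := by rw [G.map_inv_mul hv hτv]; simp
  have eqm : ∀ a ∈ E, ∀ b ∈ E, a⁻¹ * b ∈ Z → μ b = μ a := fun a ha b hb k => by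
    rw [← K _ (hZ k), hμ.map_inv_mul ha hb, inv_mul_eq_one] at k; exact k.symm
  have dec : ∀ u ∈ Z ⊔ zpowers y, ∃ b ∈ Z, ∃ i : ℤ, b * y ^ i = u := fun u => (PGrp.mem_sup_zpowers (nE hy)).1
  obtain ⟨σ, hσ, s1, s2⟩ := p5_neg hμ (AutF_le_AutOn F E) (fun a ha u hu k =>
      (K _ ((maps_of_AutF ha).mem hu)).2 (Maps.mem (sZ ha) ((K u hu).1 k))) hτ
    (mul_mem (mul_mem hg hτ) (inv_mem hg)) hy hw (by rw [← hμ.map_pow hy, K _ (hZ hyp)]; exact hyp)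
    (by rw [← hμ.map_pow hw, K _ (E.pow_mem hw p), ← G.map_pow hy]; exact Maps.mem (sZ hg) hyp)
    (eqm _ hy _ ((maps_of_AutF hτ).mem hy) (t0 t ht y yB))
    (by
      obtain ⟨b, hb, i, k⟩ := dec _ (t1 t ht _ hw)
      rw [← k, hμ _ (hZ hb) _ (zpow_mem hy i), (K b (hZ hb)).2 hb, one_mul, hμ.map_zpow hy]
      exact zpow_mem_zpowers _ i)
    (fun c => T _ hw hg' ((K _ (hB (t1 t ht _ hw))).1 c))
    (eqm _ hw _ ((maps_of_AutF (mul_mem (mul_mem hg hτ) (inv_mem hg))).mem hw) (by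
      have := Maps.mem (sZ hg) (t0 t ht y yB)
      rw [G.map_inv_mul hy ((maps_of_AutF hτ).mem hy)] at this
      simpa using this))
    (by
      obtain ⟨b, hb, i, k⟩ := dec _ (t1 t ht _ hv)
      have k1 := Maps.mem (sZ hg) hb
      rw [e1, ← k, G _ (hZ hb) _ (zpow_mem hy i), G.map_zpow hy, hμ _ (hZ k1) _ (zpow_mem hw i),
        (K _ (hZ k1)).2 k1, one_mul, hμ.map_zpow hw]
      exact zpow_mem_zpowers _ i)
    (fun c => T _ hv hv' (by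
      rw [e1, K _ ((maps_of_AutF hg).mem (hB (t1 t ht _ hv)))] at c
      simpa using Maps.inv_mem (sZ hg) c))
  have H := homOn_of_AutF hσ
  have Mσ := maps_of_AutF hσ
  have hν : HomOn (fun y => μ y * μ (σ y)) E := fun a ha b hb => by
    simp only
    rw [H a ha b hb, hμ a ha b hb, hμ _ (Mσ.mem ha) _ (Mσ.mem hb), mul_mul_mul_comm]
  have all : ∀ u ∈ E, u * σ u ∈ Z := fun u hu => by
    rw [← K _ (mul_mem hu (Mσ.mem hu)), hμ _ hu _ (Mσ.mem hu)]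
    have : E ≤ hν.pre ⊥ := (sup_zpowers_of_relIndex j2 hB hw hg').ge.trans (sup_le (sup_le (fun b hb => ⟨hZ hb, by
      simp only [(K b (hZ hb)).2 hb, (K _ (hZ (Maps.mem (sZ hσ) hb))).2 (Maps.mem (sZ hσ) hb), one_mul]; exact one_mem _⟩)
      (zpowers_le.2 ⟨hy, by simp only [s1, mul_inv_cancel]; exact one_mem _⟩))
      (zpowers_le.2 ⟨hw, by simp only [s2, mul_inv_cancel]; exact one_mem _⟩))
    exact mem_bot.1 (this hu).2
  refine ⟨σ, hσ, all, cj_le_iff_forall.2 fun a ha => ?_⟩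
  have sσ := sB σ hσ ((mul_mem_cancel_left yB).1 (mem_sup_left (all y hy)))
  obtain ⟨s, hs, hs', rfl⟩ := mem_AutK.1 ha
  have hs : s ∈ normalizerIn S E := ⟨hs, hs'⟩
  have hc := e.cr_mem hs
  have hm := (AutF F E).mul_mem (mul_mem hσ hc) (inv_mem hσ)
  have k3 := (t1 s hs).conj H le_rfl (maps_of_AutF hc) sσ Mσ
  refine (e.syl.mono (K := AutF F E ⊓ Stab (Z ⊔ zpowers y)) (fun a ha => ?_) inf_le_left).pCoreOf_le (QA.three
    (inf_le_left.trans (AutF_le_AutOn F E)) e.pg ⟨hm, (k3.mono le_rfl hB).maps ((homOn_of_AutF hm).mono hB) le_rfl⟩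
    hZ hB (fun a ha => sZ ha.1) inf_le_right k3 ((t0 s hs).conj H hB (maps_of_AutF hc) (sZ hσ) sσ)
    ((tP s hs).conj H hZ (maps_of_AutF hc) (AutOn_le_Stab_Phi E (AutF_le_AutOn F E hσ)) (sZ hσ)))
  obtain ⟨s, hs, hs', rfl⟩ := mem_AutK.1 ha
  exact ⟨e.cr_mem ⟨hs, hs'⟩, mB s ⟨hs, hs'⟩⟩

theorem Sat.negc (hF : Sat F p) (hP : P = S ∨ F.IsEssential p P) (h1 : ⁅P, P⁆ ≤ W) (h2 : W ≤ Phi P) (h3 : W ≤ Z) (hZ : Z ≤ P)
    (sZ : AutF F P ≤ Stab Z) (sW : AutF F P ≤ Stab W) (hσ : σ ∈ AutF F P) (ha : a ∈ AutF F P)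
    (n : ∀ y ∈ P, y * σ y ∈ Z) (tv : Tv a W Z) (hy : y ∈ P) : (y⁻¹ * a y) * σ (y⁻¹ * a y) ∈ W := by
  obtain ⟨-, hc, hr⟩ := hF.base_fcr hP
  have hPS := hc.1
  have := finite_of_le hPS
  have pg := hF.pg.to_le hPS
  have hW := h3.trans hZ
  have nW : ∀ B, ⁅P, P⁆ ≤ B → B ≤ P → P ≤ Subgroup.normalizer (B : Set Ω) := fun B k1 k2 s hs =>
    have := finite_of_le k2
    mem_normalizer_of_comm fun c hc => k1 (commutator_mem_commutator hs (k2 hc))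
  have A := homOn_of_AutF ha
  have H := homOn_of_AutF hσ
  have Ma := maps_of_AutF ha
  have Mσ := maps_of_AutF hσ
  have hb := mul_mem ha hσ
  have hc' := mul_mem (inv_mem hb) (mul_mem hσ ha)
  have eqv : ∀ B, AutF F P ≤ Stab B → ∀ y ∈ P, (y⁻¹ * ((a * σ)⁻¹ * (σ * a)) y ∈ B ↔ (a (σ y))⁻¹ * σ (a y) ∈ B) :=
    fun B sB y hy => by
      rw [← (sB hb : Maps _ B B) _, (homOn_of_AutF hb).map_inv_mul hy ((maps_of_AutF hc').mem hy)]
      simp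
  obtain ⟨V, _, μ, hμ, K⟩ := p5_mu (nW Z (h1.trans h3) hZ) (h1.trans h3)
  obtain ⟨V', _, ν, hν, L⟩ := p5_mu (nW W h1 hW) h1
  have t1 : Tv ((a * σ)⁻¹ * (σ * a)) Z P := fun y hy => (eqv Z sZ y hy).2 (by
    have k1 := n _ (Ma.mem hy)
    have k2 := Maps.mem (sZ ha) (n y hy)
    rw [A _ hy _ (Mσ.mem hy)] at k2
    simpa [mul_assoc] using mul_mem (inv_mem k2) k1)
  have t2 : Tv ((a * σ)⁻¹ * (σ * a)) W Z := fun y hy => (eqv W sW y (hZ hy)).2 (by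
    have k1 := tv _ (Maps.mem (sZ hσ) hy)
    have k2 := Maps.mem (sW hσ) (tv y hy)
    rw [H.map_inv_mul (hZ hy) (Ma.mem (hZ hy))] at k2
    simpa [mul_assoc] using mul_mem (inv_mem k1) k2)
  have k := QA.two (AutF_le_AutOn F P) pg hc' hZ sZ t1 (t2.mono h2 le_rfl)
  rw [(radical_iff.1 hr).2] at k
  obtain ⟨s, hs, hs', e⟩ := mem_AutK.1 k
  have t3 : Tv ((a * σ)⁻¹ * (σ * a)) W P := e ▸ tv_cr_of_comm hs' le_rfl fun c hc => h1 (commutator_mem_commutator hs hc)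
  have k1 := (eqv W sW y hy).1 (t3 y hy)
  have k2 := tv _ (n y hy)
  have m1 := Ma.mem hy
  have m2 := Mσ.mem hy
  have m3 := Ma.mem m2
  have m4 := Mσ.mem m1
  rw [← L _ (hW k1), hν.map_inv_mul m3 m4, inv_mul_eq_one] at k1
  rw [← L _ (hW k2), A _ hy _ m2, hν.map_inv_mul (mul_mem hy m2) (mul_mem m1 m3), hν _ hy _ m2, hν _ m1 _ m3,
    inv_mul_eq_one] at k2
  have m5 := mul_mem (inv_mem hy) m1
  rw [← L _ (mul_mem m5 (Mσ.mem m5)), H.map_inv_mul hy m1, hν _ m5 _ (mul_mem (inv_mem m2) m4), hν.map_inv_mul hy m1,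
    hν.map_inv_mul m2 m4, ← k1, mul_mul_mul_comm, ← mul_inv, k2, inv_mul_cancel]

/-- `p`-elements of `Aut_F(E)` contribute nothing new to the focal subgroup. -/
def Gd5 (F : FusionSystem S) (p : ℕ) (E : Subgroup Ω) : Prop :=
  ∀ M, ⁅S, S⁆ ≤ M → (∀ g, Iso F g S S → Tv g M S) → ∀ a ∈ AutF F E, (∃ k, a ^ p ^ k = 1) → Tv a M E

theorem Es.gd5 (e : Es F p E) (h2 : p ≠ 2) (sZ : AutF F E ≤ Stab Z) (hZ : Z ≤ E) (h0 : Phi E ≤ Z)
    (i0 : (Phi E).relIndex Z ∣ p) (hΦ : Phi E ≤ ⁅S, S⁆) (hσ : σ ∈ AutF F E) (n : ∀ y ∈ E, y * σ y ∈ Z)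
    (hg : Iso F g S S) (eg : ∀ x ∈ E, g x = σ x) : Gd5 F p E := fun M h1 h3 a ha ⟨k, hk⟩ y hy => by
  have := e.finite
  have sP := (AutF_le_AutOn F E).trans (AutOn_le_Stab_Phi E)
  have k1 := e.sat.negc (.inr e.ess) (commutator_le_Phi e.pg) le_rfl h0 hZ sZ sP hσ ha n
    (tv_of_relIndex hk ((homOn_of_AutF ha).mono hZ) (sZ ha) (sP ha)
      (hZ.trans (le_normalizer_of_Phi_le e.pg le_rfl (Phi_le E))) i0) hy
  have hu := mul_mem (inv_mem hy) ((maps_of_AutF ha).mem hy)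
  have k2 := h3 g hg _ (e.le hu)
  rw [eg _ hu] at k2
  refine p5_sq h2 e.pg hu ?_
  simpa [mul_assoc] using mul_mem (h1 (hΦ k1)) (inv_mem k2)

theorem Sat.foc_ne (hF : Sat F p) (h2 : p ≠ 2) (hZ : Z ≤ S) (h1 : ⁅S, S⁆ ≤ Z) (h3 : ¬ Z ≤ ⁅S, S⁆) (sZ : AutF F S ≤ Stab Z)
    (hg : Iso F g S S) (n : ∀ y ∈ S, y * g y ∈ Z) (tv : ∀ a, Iso F a S S → Tv a ⁅S, S⁆ Z)
    (gd : ∀ E, F.IsEssential p E → Gd5 F p E) : F.focalSubgroup ≠ S := fun e => by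
  have sW := (AutF_le_AutOn F S).trans (chr_der S).stab
  obtain ⟨V, _, μ, hμ, K⟩ := p5_mu (chr_der S).le_normalizer le_rfl
  have H := hg.homOn
  have hν : HomOn (fun y => μ y * μ (g y)) S := fun a ha b hb => by
    simp only
    rw [H a ha b hb, hμ a ha b hb, hμ _ (hg.mem ha) _ (hg.mem hb), mul_mul_mul_comm]
  have mem : ∀ y ∈ S, y ∈ hν.pre ⊥ ↔ y * g y ∈ ⁅S, S⁆ := fun y hy => by
    rw [← K _ (mul_mem hy (hg.mem hy)), hμ _ hy _ (hg.mem hy)]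
    exact ⟨fun k => mem_bot.1 k.2, fun k => ⟨hy, mem_bot.2 k⟩⟩
  have hD := (chr_der S).1
  have m1 : ⁅S, S⁆ ≤ hν.pre ⊥ := fun y hy => (mem y (hD hy)).2 (mul_mem hy (((chr_der S).2 g H hg.maps).mem hy))
  have m2 : ∀ a, Iso F a S S → Tv a (hν.pre ⊥) S := fun a ha y hy => by
    have hu := mul_mem (inv_mem hy) (ha.mem hy)
    have := hF.negc (.inl rfl) le_rfl (commutator_le_Phi hF.pg) h1 hZ sZ sW hg.res_mem ha.res_mem
      (fun y hy => by rw [res_apply hg.maps hy]; exact n y hy)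
      (fun y hy => by rw [res_apply ha.maps (hZ hy)]; exact tv a ha y hy) hy
    rw [res_apply ha.maps hy, res_apply hg.maps hu] at this
    exact (mem _ hu).2 this
  have m3 : F.focalSubgroup ≤ hν.pre ⊥ := foc_le_iff.2 (hF.alperin_p (C := fun P f => Tv f (hν.pre ⊥) P)
    ⟨fun k e y hy => by rw [e y hy]; exact k y hy, fun k hQ y hy => k y (hQ hy), fun hf _ k k' y hy => by
      simpa [mul_assoc] using mul_mem (k y hy) (k' _ (hf.mem hy)), fun hf k y hy => by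
      simpa using inv_mem (k _ (hf.symm.mem hy))⟩
    (fun a ha => m2 a (iso_of_AutF le_rfl ha)) fun P hP => gd P hP _ m1 m2)
  refine h3 fun y hy => p5_sq h2 hF.pg (hZ hy) ?_
  simpa [mul_assoc] using mul_mem ((mem y (hZ hy)).1 (m3 (e.ge (hZ hy)))) (inv_mem (tv g hg y hy))

end Cfsg.Agent.Fus
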