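import Cfsg.Agent.P5.A

/-! Essential subgroups of groups of order `p ^ 5` without abelian subgroups of index `p` (helper26). -/

set_option autoImplicit false

namespace Cfsg.Agent.Fus

open Subgroup Cfsg Cfsg.Agent.Loc Equiv
open Cfsg.FusionSystem (normalizerIn centralizerIn)
open scoped commutatorElement

variable {Ω : Type*} [Group Ω] {S E D Q R : Subgroup Ω} {p m : ℕ} {F : FusionSystem S} {a f g k σ : Perm Ω}
  {t x y z e d : Ω} [hp : Fact p.Prime] [Finite S]

structure Cg5 (F : FusionSystem S) (p : ℕ) (E D : Subgroup Ω) (t z : Ω) : Prop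
    extends TVD F p E (E ⊓ D) t z where
  ex : ∀ x ∈ E, x ^ p = 1
  card : Nat.card E = p ^ 3
  hN : E ⊔ D = normalizerIn S E
  cH : Nat.card (E ⊓ D : Subgroup Ω) = p ^ 2
  leD : D ≤ S
  nD : S ≤ normalizer (D : Set Ω)
  cD : Nat.card D = p ^ 3
  ltS : normalizerIn S E < S
  nN : S ≤ normalizer (normalizerIn S E : Set Ω)

namespace Cg5

variable (h : Cg5 F p E D t z)
include h

omit hp [Finite S] in
theorem el : El3 F p E := ⟨h.toEs, h.ab, h.ex, h.card⟩

omit hp [Finite S] in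
theorem Z3_le : D ≤ normalizerIn S E := le_sup_right.trans h.hN.le

omit [Finite S] in
theorem cN : Nat.card (normalizerIn S E) = p ^ 4 := by
  rw [← Solv.card_mul_relIndex (le_NS h.le), h.relIndex, h.card, ← pow_succ]

omit [Finite S] in
theorem ZN : centralizerIn (normalizerIn S E) (normalizerIn S E) = E ⊓ D := by
  refine le_antisymm (fun y hy => ?_) (le_inf (inf_le_left.trans (le_NS h.le)) (le_centralizer_iff.1 h.cen))
  have hyE : y ∈ E := h.CS_le ⟨hy.1.1, centralizer_anti (le_NS h.le) hy.2⟩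
  exact h.mem_of_fix h.ht h.ht0 hyE (by rw [cr_apply h.ht.2 hyE, hy.2 t h.ht, mul_inv_cancel_right])

omit hp [Finite S] in
theorem chrH [Fact p.Prime] : Chr (normalizerIn S E) (E ⊓ D) := h.ZN ▸ chr_CS _

omit hp [Finite S] in
theorem comm_z (hs : x ∈ normalizerIn S E) (he : e ∈ E) : ⁅x, e⁆ ∈ zpowers z := by
  have := h.comm x hs e⁻¹ (inv_mem he)
  rw [cr_apply hs.2 (inv_mem he), inv_inv] at this
  rw [← commutatorElement_inv]
  exact inv_mem (by simpa only [commutatorElement_def, mul_assoc] using this)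

omit hp [Finite S] in
theorem z_der : z ∈ ⁅normalizerIn S E, normalizerIn S E⁆ := by
  obtain ⟨x, hx, e⟩ := h.eqz
  have := commutator_mem_commutator (le_NS h.le (inv_mem hx)) h.ht
  rwa [commutatorElement_def, inv_inv, mul_assoc, mul_assoc, ← mul_assoc t, e] at this

theorem supE (he : e ∈ E) (he' : e ∉ D) : (E ⊓ D) ⊔ zpowers e = E :=
  sup_zpowers_of_relIndex h.idx h.leZ he fun c => he' c.2

theorem exists_e : ∃ e ∈ E, e ∉ D := by
  obtain ⟨g, hg⟩ := h.exists_far
  have := (maps_of_AutF hg.1).mem h.hzP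
  exact ⟨_, this, fun c => h.far g hg ⟨this, c⟩⟩

theorem supN (he : e ∈ E) (he' : e ∉ D) : D ⊔ zpowers e = normalizerIn S E := by
  refine le_antisymm (sup_le h.Z3_le (zpowers_le.2 (le_NS h.le he))) ?_
  rw [← h.hN, ← h.supE he he']
  exact sup_le (sup_le (inf_le_right.trans le_sup_left) le_sup_right) le_sup_left

theorem iD : (D).relIndex (normalizerIn S E) = p :=
  have := finite_of_le (h.leD)
  relIndex_of_card h.Z3_le (by rw [h.cD, h.cN, pow_succ])

theorem iH : (E ⊓ D).relIndex (D) = p :=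
  have := finite_of_le (inf_le_right.trans (h.leD) : E ⊓ D ≤ S)
  relIndex_of_card inf_le_right (by rw [h.cD, h.cH, pow_succ])

omit [Finite S] in
theorem mapsD (hx : x ∈ normalizerIn S (normalizerIn S E)) : Maps (cr (normalizerIn S E) x) (D) (D) :=
  (maps_cp (h.nD hx.1)).congr fun _ hy => cr_apply hx.2 (h.Z3_le hy)

omit [Finite S] in
theorem mapsH (ha : a ∈ AutF F (normalizerIn S E)) : Maps a (E ⊓ D) (E ⊓ D) :=
  h.chrH.stab (AutF_le_AutOn F _ ha)

theorem tvD (hx : x ∈ normalizerIn S (normalizerIn S E)) : Tv (cr (normalizerIn S E) x) (D) (normalizerIn S E) :=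
  mxe_tv h.sat (NS_le S E) hx le_rfl (h.mapsD hx) (maps_of_AutF (cr_mem_AutF F (NS_le S E) hx))
    ((NS_le S E).trans (h.nD)) (h.iD).dvd

theorem tvH (hx : x ∈ normalizerIn S (normalizerIn S E)) : Tv (cr (normalizerIn S E) x) (E ⊓ D) (D) :=
  mxe_tv h.sat (NS_le S E) hx h.Z3_le (h.mapsH (cr_mem_AutF F (NS_le S E) hx)) (h.mapsD hx)
    (h.Z3_le.trans h.chrH.le_normalizer) (h.iH).dvd

theorem nrm (he : e ∈ E) (he' : e ∉ D) (hx : x ∈ normalizerIn S (normalizerIn S E))
    (h1 : cr (normalizerIn S E) x e ∈ E) : x ∈ normalizerIn S E := by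
  have := h.finite
  have hc := cr_mem_AutF F (NS_le S E) hx
  refine ⟨hx.1, maps_cp_iff.1 (((homOn_cp x E).maps_self fun y hy => ?_))⟩
  rw [cp_apply, ← cr_apply hx.2 (le_NS h.le hy)]
  refine HomOn.mem_of_sup (by rw [h.supE he he']; exact (homOn_of_AutF hc).mono (le_NS h.le))
    (fun y hy => ((h.mapsH hc).mem hy).1) ?_ y ((h.supE he he').ge hy)
  rintro _ ⟨i, rfl⟩
  rw [(homOn_of_AutF hc).map_zpow (le_NS h.le he)]
  exact zpow_mem h1 i

theorem orb (he : e ∈ E) (he' : e ∉ D) (hx : x ∈ normalizerIn S (normalizerIn S E)) (hx' : x ∉ normalizerIn S E)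
    (hd : d ∈ D) : ∃ n : ℕ, (e * d)⁻¹ * cr (normalizerIn S E) (x ^ n) e ∈ E ⊓ D := by
  have hN := le_NS h.le he
  have h1 := h.tvD hx e hN
  have h2 : e⁻¹ * cr (normalizerIn S E) x e ∉ E ⊓ D := fun k =>
    hx' (h.nrm he he' hx ((mul_mem_cancel_left (inv_mem he)).1 k.1))
  have hn := h.Z3_le.trans h.chrH.le_normalizer
  obtain ⟨b, hb, i, e1⟩ := exists_mul_zpow (h.iH).dvd inf_le_right hn h1 h2 hd
  have h3 := pow_mem_of_relIndex (h.iH).dvd hn h1
  refine ⟨(i % p).toNat, ?_⟩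
  have h4 := (h.tvH hx).pow_apply (homOn_of_AutF (cr_mem_AutF F (NS_le S E) hx)) inf_le_right h.Z3_le hN h1 (i % p).toNat
  rw [(homOn_cr _).map_pow hx.2]
  set u := e⁻¹ * cr (normalizerIn S E) x e
  have h5 : d⁻¹ * u ^ (i % p).toNat ∈ E ⊓ D := by
    have k : u ^ i = u ^ (i % p).toNat * (u ^ p) ^ (i / p) := by
      rw [← zpow_natCast, Int.toNat_of_nonneg (Int.emod_nonneg _ (by exact_mod_cast hp.out.ne_zero)), ← zpow_natCast,
        ← zpow_mul, ← zpow_add, Int.emod_add_mul_ediv]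
    rw [← e1, k, show (b * (u ^ (i % p).toNat * (u ^ p) ^ (i / p)))⁻¹ * u ^ (i % p).toNat = ((u ^ p) ^ (i / p))⁻¹ *
      ((u ^ (i % p).toNat)⁻¹ * b⁻¹ * u ^ (i % p).toNat) by group]
    exact mul_mem (inv_mem (zpow_mem h3 _)) (conj_inv_mem_of_mem_normalizer (hn (pow_mem h1 _)) (inv_mem hb))
  have := mul_mem h5 h4
  rwa [show d⁻¹ * u ^ (i % p).toNat * ((e * u ^ (i % p).toNat)⁻¹ * (cr (normalizerIn S E) x ^ (i % p).toNat) e) =
    (e * d)⁻¹ * (cr (normalizerIn S E) x ^ (i % p).toNat) e by group] at this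

theorem stabD (ha : a ∈ AutF F (normalizerIn S E)) : Maps a (D) (D) := by
  have := finite_of_le (h.leD)
  have A := homOn_of_AutF ha
  refine (A.mono h.Z3_le).maps_self fun d hd => by_contra fun hc => ?_
  obtain ⟨x, hx, hx'⟩ := SetLike.exists_of_lt (lt_NS h.sat.pg h.ltS)
  obtain ⟨e, he, he'⟩ := h.exists_e
  have hN := le_NS h.le he
  have hD := (NS_le S E).trans (h.nD)
  have hd' := (maps_of_AutF ha).mem (h.Z3_le hd)
  obtain ⟨b, hb, i, e1⟩ := exists_mul_zpow (h.iD).dvd h.Z3_le hD hd' hc hN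
  obtain ⟨n, hn⟩ := h.orb he he' hx hx' (d := e⁻¹ * b⁻¹ * e) (conj_inv_mem_of_mem_normalizer (hD hN) (inv_mem hb))
  rw [show e * (e⁻¹ * b⁻¹ * e) = a d ^ i by rw [← e1]; group] at hn
  have hu := cr_mem_AutF F (NS_le S E) (pow_mem hx n)
  have hk := mul_mem (inv_mem ha) hu
  have K := homOn_of_AutF hk
  have k1 : (a⁻¹ * cr (normalizerIn S E) (x ^ n)) e ∈ D := by
    have := ((h.mapsH (inv_mem ha)).mem hn).2
    rw [(homOn_of_AutF (inv_mem ha)).map_inv_mul (zpow_mem hd' i) ((maps_of_AutF hu).mem hN),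
      (homOn_of_AutF (inv_mem ha)).map_zpow hd', perm_inv_apply] at this
    exact (mul_mem_cancel_left (inv_mem (zpow_mem hd i))).1 this
  have k2 : Maps (a⁻¹ * cr (normalizerIn S E) (x ^ n)) E (D) :=
    (K.mono (le_NS h.le)).maps_of_card (fun y hy => HomOn.mem_of_sup (by rw [h.supE he he']; exact K.mono (le_NS h.le))
      (fun y hy => ((h.mapsH hk).mem hy).2) (by
        rintro _ ⟨i, rfl⟩
        rw [K.map_zpow hN]; exact zpow_mem k1 i) y ((h.supE he he').ge hy)) (by rw [h.cD, h.card])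
  have := (fn_iff.1 h.fn).2 _ _ ⟨(iso_of_AutF (NS_le S E) hk).mor.mono (le_NS h.le), k2⟩
  rw [show normalizerIn S (D) = S from le_antisymm (NS_le _ _) (le_inf le_rfl (h.nD))] at this
  exact (card_lt_card h.ltS).not_ge this

theorem pcore (hx : x ∈ normalizerIn S (normalizerIn S E)) :
    cr (normalizerIn S E) x ∈ pCoreOf p (AutF F (normalizerIn S E)) := by
  have hP := h.sat.pg.to_le (NS_le S E)
  have hc := cr_mem_AutF F (NS_le S E) hx
  have hH := h.leZ.trans (le_NS h.le)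
  refine QA.three (AutF_le_AutOn F _) hP hc hH h.Z3_le (fun a ha => h.mapsH ha) (fun a ha => h.stabD ha) (h.tvD hx)
    (h.tvH hx) (mxe_tv h.sat (NS_le S E) hx hH (AutOn_le_Stab_Phi _ (AutF_le_AutOn F _ hc)) (h.mapsH hc)
      (hH.trans (le_normalizer_of_Phi_le hP le_rfl (Phi_le _))) ?_)
  rw [← inf_relIndex_right]
  exact relIndex_dvd_right (Z := ⊥) (by rw [relIndex_bot_left, h.cH]) bot_le inf_le_right fun e =>
    h.ne_one (mem_bot.1 (e.le ⟨commutator_le_Phi hP h.z_der, h.hz⟩))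

theorem ext (ha : a ∈ AutF F E) (hz : a z ∈ E ⊓ D) : ∃ g, Iso F g S S ∧ ∀ x ∈ E, g x = a x := by
  obtain ⟨g, h1, h2⟩ := h.ext_NS ha (h.cj_le ha hz)
  obtain ⟨k, h3, h4⟩ := h.sat.ext_pCore (fn_of_normal F (NS_le S E) h.nN) (fun x => h.pcore) h1
  rw [show normalizerIn S (normalizerIn S E) = S from le_antisymm (NS_le _ _) (le_inf le_rfl h.nN)] at h3
  exact ⟨k, h3, fun x hx => (h4 x (le_NS h.le hx)).trans (h2 x hx)⟩

theorem sig (hσ : σ ∈ AutF F E ⊓ FixP (Dz F E (E ⊓ D))) (hz : σ z ∈ zpowers z) (hy : y ∈ E ⊓ D) :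
    (y ^ (1 : ℤ))⁻¹ * σ y ∈ zpowers z := by
  obtain ⟨d, hd, i, rfl⟩ := h.decompZ hy
  have H := homOn_of_AutF hσ.1
  rw [H d hd.1 _ (zpow_mem h.hzP i), H.map_zpow h.hzP, hσ.2 d hd, zpow_one, mul_inv_rev, mul_assoc, inv_mul_cancel_left]
  exact mul_mem (inv_mem (zpow_mem (mem_zpowers z) i)) (zpow_mem hz i)

theorem gd (h2 : p ≠ 2) : Gd5 F p E := fun M _ h3 a ha ⟨k, hk⟩ => by
  have := h.finite
  have := finite_AutF F E
  obtain ⟨g₀, hg₀⟩ := h.exists_far
  obtain ⟨σ, hσ, s1, s2⟩ := h.exists_neg hg₀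
  obtain ⟨g, hg, eg⟩ := h.ext hσ.1 (s1 ▸ inv_mem h.hz)
  have key : ∀ y ∈ E, σ y = y⁻¹ → y ∈ M := fun y hy e => p5_sq h2 h.pg hy (by
    have := h3 g hg y (h.le hy)
    rw [eg y hy, e] at this
    simpa using inv_mem this)
  obtain ⟨c, hc, e⟩ := h.syl.exists_conj_le (zpowers_le.2 ha) (fun b => ⟨k, Subtype.ext (pow_eq_one_of_mem_zpowers hk b.2)⟩)
  obtain ⟨s, hs, hs', e1⟩ := mem_AutK.1 (cj_le_iff_forall.1 e a (mem_zpowers a))
  have C := homOn_of_AutF (inv_mem hc)
  have := (h.comm s ⟨hs, hs'⟩).conj C le_rfl (maps_of_AutF (h.cr_mem ⟨hs, hs'⟩))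
    (C.mono (zpowers_le.2 h.hzP)).maps_zpowers (maps_of_AutF (inv_mem hc))
  rw [e1, show c⁻¹ * (c * a * c⁻¹) * c⁻¹⁻¹ = a by group] at this
  exact this.mono (zpowers_le.2 (sup_le (zpowers_le.2 (key z h.hzP s1))
    (zpowers_le.2 (key _ ((maps_of_AutF hg₀.1).mem h.hzP) s2)) (h.orbit hg₀ (inv_mem hc)))) le_rfl

end Cg5

theorem El3.cg (h : El3 F p E) (hc : Nat.card S = p ^ 5) : ∃ D t z, Cg5 F p E D t z := by
  have := h.finite
  have pg := h.sat.pg
  have hN := le_NS h.le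
  have norm : ∀ B ≤ E, E ≤ normalizer (B : Set Ω) := fun B hB =>
    le_normalizer_of_le_centralizer (h.ab.trans (centralizer_anti hB))
  have cN : ∀ {Z}, TV F p E Z → Nat.card (normalizerIn S E) = p ^ 4 := fun k => by
    obtain ⟨t, z, d⟩ := k.exists_tvd
    rw [← Solv.card_mul_relIndex hN, d.relIndex, h.card, ← pow_succ]
  have lt : normalizerIn S E < S := lt_of_le_of_ne (NS_le S E) fun e => by
    have nE : S ≤ normalizer (E : Set Ω) := e.ge.trans (NS_le_normalizer S E)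
    obtain ⟨z, z1, z2, z3, z4⟩ := p5_cen pg mxe_nb nE h.le fun k => by
      have := h.card
      rw [le_bot_iff.1 k, card_bot, eq_comm, Nat.pow_eq_one] at this
      exact this.elim hp.out.ne_one (by omega)
    have cz := PGrp.card_zpowers_of_pow_eq_one (mem_bot.1 z3) fun k => z2 (mem_bot.2 k)
    have := finite_of_le (zpowers_le.2 z1)
    have zc : zpowers z ≤ centralizer (S : Set Ω) := zpowers_le.2 fun g hg =>
      (commutatorElement_eq_one_iff_mul_comm.1 (z4 g hg)).symm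
    have nz := le_normalizer_of_le_centralizer (le_centralizer_iff.1 zc)
    obtain ⟨w, w1, w2, w3, w4⟩ := p5_cen pg nz nE h.le fun k => by
      have := card_le_card k
      rw [cz, h.card, ← pow_one p, ← pow_mul, Nat.pow_le_pow_iff_right hp.out.one_lt] at this
      omega
    have hH : zpowers z ⊔ zpowers w ≤ E := sup_le (zpowers_le.2 z1) (zpowers_le.2 w1)
    have := finite_of_le hH
    have i1 := relIndex_of_card hH (k := p) (by rw [PGrp.card_sup_zpowers hp.out (nz (h.le w1)) w2 w3, cz, h.card]; ring)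
    have i2 := relIndex_cen_dvd zc w4
    obtain ⟨t, t1, t2⟩ : ∃ t ∈ centralizer ({w} : Set Ω) ⊓ S, t ∉ E := by
      by_contra! k
      have k1 := Solv.card_inf_mul_relIndex (centralizer ({w} : Set Ω)) S
      have k2 := Nat.mul_le_mul (card_le_card (show _ ≤ E from k)) (Nat.le_of_dvd hp.out.pos (cz ▸ i2))
      rw [k1, hc, h.card, ← pow_succ, Nat.pow_le_pow_iff_right hp.out.one_lt] at k2
      omega
    have k : zpowers z ⊔ zpowers w ≤ centralizer ({t} : Set Ω) := sup_le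
      (zc.trans (centralizer_le (Set.singleton_subset_iff.2 t1.2)))
      (zpowers_le.2 (mem_centralizer_singleton_iff.2 (mem_centralizer_singleton_iff.1 t1.1).symm))
    have := cN (h.tv_of h.ab hH i1.dvd (e.ge t1.2) t2 fun y hy => mem_centralizer_singleton_iff.1 (k hy))
    rw [e, hc, Nat.pow_right_inj hp.out.one_lt] at this
    omega
  have i0 := (relIndex_of_card h.le (k := p ^ 2) (by rw [hc, h.card]; ring)).dvd
  have i1 := relIndex_dvd_left i0 hN (NS_le S E) lt.ne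
  have i2 := relIndex_dvd_right i0 hN (NS_le S E) h.lt_NS.ne'
  have nN := le_normalizer_of_relIndex pg (NS_le S E) i2
  have c4 : Nat.card (normalizerIn S E) = p ^ 4 := by
    rw [← Solv.card_mul_relIndex hN, ((Nat.dvd_prime hp.out).1 i1).resolve_left fun k =>
      h.lt_NS.not_ge (relIndex_eq_one.1 k), h.card, ← pow_succ]
  obtain ⟨x, hx, hx'⟩ := SetLike.exists_of_lt lt
  have m := maps_cp_cj x E
  have hE' : cj x E ≤ normalizerIn S E := fun y hy => by
    obtain ⟨u, hu, rfl⟩ := m.exists_eq hy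
    exact (maps_cp (nN hx)).mem (hN hu)
  have := finite_of_le hE'
  have c3 : Nat.card (cj x E) = p ^ 3 := m.card_eq ▸ h.card
  have ne : ¬ cj x E ≤ E := fun k => hx' ⟨hx, maps_cp_iff.1 (by
    rwa [eq_of_le_of_card_le k (by rw [c3, h.card])] at m)⟩
  have ne' : ¬ E ≤ cj x E := fun k => ne (eq_of_le_of_card_le k (by rw [c3, h.card])).ge
  obtain ⟨t, ht, ht'⟩ := SetLike.not_le_iff_exists.1 ne
  have i3 := (relIndex_of_card hE' (k := p) (by rw [c3, c4]; ring)).dvd
  have i4 : (E ⊓ cj x E).relIndex E ∣ p := by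
    rw [inf_relIndex_left]
    haveI := normal_subgroupOf_of_le_normalizer (le_normalizer_of_relIndex (pg.to_le (NS_le S E)) hE' i3)
    rw [← relIndex_subgroupOf hN]
    exact (relIndex_dvd_index_of_normal _ _).trans i3
  have tv := h.tv_of h.ab inf_le_left i4 (hE' ht) ht' (by
    obtain ⟨u, hu, rfl⟩ := m.exists_eq ht
    exact centralizer_anti inf_le_right ((homOn_cp x E).mem_centralizer le_rfl m hu (h.ab hu)))
  set H := E ⊓ cj x E
  have cH : Nat.card H = p ^ 2 := by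
    have := Solv.card_mul_relIndex (inf_le_left : H ≤ E)
    rw [((Nat.dvd_prime hp.out).1 i4).resolve_left fun k => ne' ((relIndex_eq_one.1 k).trans inf_le_right), h.card,
      pow_succ] at this
    exact Nat.eq_of_mul_eq_mul_right hp.out.pos this
  obtain ⟨t', z, d⟩ := tv.exists_tvd
  have ZN : centralizerIn (normalizerIn S E) (normalizerIn S E) = H := by
    refine le_antisymm (fun y hy => ?_) (le_inf (inf_le_left.trans hN) (le_centralizer_iff.1 d.cen))
    have hyE : y ∈ E := h.CS_le ⟨hy.1.1, centralizer_anti hN hy.2⟩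
    exact d.mem_of_fix d.ht d.ht0 hyE (by rw [cr_apply d.ht.2 hyE, hy.2 t' d.ht, mul_inv_cancel_right])
  have nH : S ≤ normalizer (H : Set Ω) := fun s hs =>
    maps_cp_iff.1 (ZN ▸ (chr_CS _).2 _ (homOn_cp s _) (maps_cp (nN hs)))
  obtain ⟨u, u1, u2, u3, u4⟩ := p5_cen pg nH nN (NS_le S E) fun k => h.lt_NS.not_ge (k.trans inf_le_left)
  have hD : H ⊔ zpowers u ≤ normalizerIn S E := sup_le (inf_le_left.trans hN) (zpowers_le.2 u1)
  have := finite_of_le hD
  have cD : Nat.card (H ⊔ zpowers u : Subgroup Ω) = p ^ 3 := by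
    rw [PGrp.card_sup_zpowers hp.out (nH u1.1) u2 u3, cH, ← pow_succ]
  have nD : S ≤ normalizer ((H ⊔ zpowers u : Subgroup Ω) : Set Ω) := fun s hs => mem_normalizer_of_comm fun c hc =>
    mem_sup_left (commutator_le.1 (commutator_sup_right_le (C := S) le_normalizer ((zpowers_le.2 u1.1).trans nH)
      (commutator_le.2 fun a ha b hb => comm_mem_of_normalizer (nH ha) hb)
      (commutator_zpowers_right_le (nH u1.1) fun c hc => comm_mem_symm (u4 c hc))) s hs c hc)
  have hu : ¬ H ⊔ zpowers u ≤ E := fun k => lt.not_ge (le_inf le_rfl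
    (eq_of_le_of_card_le k (by rw [cD, h.card]) ▸ nD))
  have e1 : E ⊓ (H ⊔ zpowers u) = H := (eq_or_eq_of_relIndex_dvd (PGrp.relIndex_sup_zpowers hp.out (nH u1.1) u2 u3).dvd
    (le_inf inf_le_left le_sup_left) inf_le_right).resolve_right fun k => hu (k.ge.trans inf_le_left)
  exact ⟨_, t', z, e1.symm ▸ d, h.ex, h.card, (eq_or_eq_of_relIndex_dvd i1 le_sup_left (sup_le hN hD)).resolve_left
    fun k => hu (le_sup_right.trans k.le), e1.symm ▸ cH, hD.trans (NS_le S E), nD, cD, lt, nN⟩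

def NoAb (p : ℕ) (S : Subgroup Ω) : Prop := ∀ A ≤ S, A ≤ centralizer (A : Set Ω) → Nat.card A ≠ p ^ 4

structure Q45 (p : ℕ) (E : Subgroup Ω) : Prop where
  card : Nat.card E = p ^ 4
  cZ : Nat.card (centralizerIn E E) = p ^ 2
  cP : Nat.card (Phi E) = p
  le : Phi E ≤ centralizerIn E E
  der : Phi E = ⁅E, E⁆

theorem Es.q45 (e : Es F p E) (h2 : p ≠ 2) (hc : Nat.card E = p ^ 4) (na : ¬ E ≤ centralizer (E : Set Ω)) : Q45 p E := by
  have := e.finite
  have pg := e.pg
  have nZ := (chr_CS E).le_normalizer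
  have hZ := Fus.CS_le E E
  have := finite_of_le hZ
  obtain ⟨w, w1, w2, w3, w4⟩ := p5_cen pg nZ le_normalizer le_rfl fun k => na (k.trans (CS_le_centralizer E E))
  have hB : centralizerIn E E ⊔ zpowers w ≤ E := sup_le hZ (zpowers_le.2 w1)
  have := finite_of_le hB
  have cB := PGrp.card_sup_zpowers hp.out (nZ w1) w2 w3
  have abB := sup_zpowers_ab (hZ.trans (le_cen_CS E)) (le_cen_CS E w1)
  obtain ⟨i, i1, i2⟩ := (Nat.dvd_prime_pow hp.out).1 (hc ▸ card_dvd_of_le hZ)
  have i3 : (centralizerIn E E).relIndex E = p ^ (4 - i) := relIndex_of_card hZ (by rw [hc, i2, ← pow_add]; congr 1; omega)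
  have i4 : i ≤ 2 := by
    by_contra k
    exact na (ab_of_relIndex hZ (le_cen_CS E) (i3 ▸ (pow_dvd_pow p (by omega)).trans (pow_one p).dvd))
  have i5 : i ≠ 0 := by
    rintro rfl
    exact CS_self_ne_bot pg (fun k => na (k ▸ bot_le)) (card_eq_one.1 i2)
  have hD := (chr_der E).1
  have := finite_of_le hD
  obtain rfl : i = 2 := by
    by_contra k
    obtain rfl : i = 1 := by omega
    rw [pow_one] at i2
    have j1 := relIndex_cen_dvd (CS_le_centralizer E E) w4
    rw [i2, ← inf_relIndex_right] at j1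
    set C := centralizer ({w} : Set Ω) ⊓ E
    have j2 : C.relIndex E = p := ((Nat.dvd_prime hp.out).1 j1).resolve_left fun k => w2 ⟨w1, fun y hy =>
      mem_centralizer_singleton_iff.1 (relIndex_eq_one.1 k hy).1⟩
    have cC : Nat.card C = p ^ 3 := by
      have := Solv.card_mul_relIndex (inf_le_right : C ≤ E)
      rw [j2, hc, pow_succ] at this
      exact Nat.eq_of_mul_eq_mul_right hp.out.pos this
    have hBC : centralizerIn E E ⊔ zpowers w ≤ C := le_inf (abB.trans (centralizer_le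
      (Set.singleton_subset_iff.2 (mem_sup_right (mem_zpowers w))))) hB
    have abC : C ≤ centralizer (C : Set Ω) := ab_of_relIndex hBC (le_centralizer_iff.1 (sup_le
      ((CS_le_centralizer E E).trans (centralizer_anti inf_le_right)) (zpowers_le.2 fun y hy =>
        mem_centralizer_singleton_iff.1 hy.1))) (relIndex_of_card hBC (k := p) (by rw [cC, cB, i2]; ring)).dvd
    have ai : AI p E C := ⟨pg, inf_le_right, abC, j2, na⟩
    have := finite_of_le ai.le
    have cD := ai.card_A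
    rw [cC, i2, pow_succ] at cD
    have cD := Nat.eq_of_mul_eq_mul_right hp.out.pos cD
    have chr : Chr E C := chr_of ai.le fun f f1 f2 y hy => by_contra fun hy' => by
      have m := (f1.mono ai.le).maps_img
      have k1 : img f C ≤ E := img_le_iff.2 fun u hu => f2.mem hu.2
      have k2 := ai.card_eq k1 (m.mem hy) hy'
      have k3 : C ⊓ img f C ≤ centralizerIn E E := fun u hu => ai.mem_Z (f2.mem hy.2) hy' hu.1
        ((f1.mono ai.le).mem_centralizer le_rfl m hy (abC hy) u hu.2).symm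
      have k4 := card_le_card k3
      rw [← m.card_eq, cC, pow_succ] at k2
      rw [Nat.eq_of_mul_eq_mul_right hp.out.pos k2, i2, ← pow_one p, ← pow_mul,
        Nat.pow_le_pow_iff_right hp.out.one_lt] at k4
      omega
    have j3 : (Phi E).relIndex E ∣ p ^ 2 := (relIndex_dvd_of_le_left E (commutator_le_Phi pg)).trans
      (relIndex_of_card hD (k := p ^ 2) (by rw [← cD, hc]; ring)).dvd
    have j4 : Phi E ≤ C := (Phi_le_iff pg).2 ⟨ai.der_le, fun y hy => pow_mem_of_relIndex j2.dvd ai.norm hy⟩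
    rcases e.nf.two' j3 chr j4 with k | k
    · have := Solv.card_mul_relIndex (Phi_le E)
      exact e.nf.phi (k ▸ j2.dvd)
    · exact na (k ▸ abC)
  have ai : AI p E (centralizerIn E E ⊔ zpowers w) :=
    ⟨pg, hB, abB, relIndex_of_card hB (by rw [cB, i2, hc]; ring), na⟩
  have cD := ai.card_A
  rw [cB, i2, mul_comm] at cD
  have cD := (Nat.eq_of_mul_eq_mul_right (pow_pos hp.out.pos 2) cD).symm
  have d1 := le_centralizer_of_card pg (chr_der E).le_normalizer cD
  have d2 : ∀ x ∈ ⁅E, E⁆, x ^ p = 1 := fun x hx => by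
    have := pow_card_eq_one' (x := (⟨x, hx⟩ : ↥⁅E, E⁆))
    rw [cD] at this
    exact congrArg Subtype.val this
  have cm : ∀ x ∈ E, ∀ y ∈ E, ∀ u ∈ E, Commute ⁅x, y⁆ u := fun x hx y hy u hu =>
    (d1 (commutator_mem_commutator hx hy) u hu).symm
  have d3 : ∀ x ∈ E, x ^ p ∈ centralizerIn E E := fun x hx => ⟨pow_mem hx p, fun y hy =>
    (commutatorElement_eq_one_iff_mul_comm.1 (by
      rw [PGrp.commutator_pow_left (cm x hx y hy x hx), d2 _ (commutator_mem_commutator hx hy)])).symm⟩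
  have d4 : ⁅E, E⁆ ≤ centralizerIn E E := le_inf hD d1
  have d5 : Phi E ≤ centralizerIn E E := (Phi_le_iff pg).2 ⟨d4, d3⟩
  have j1 := (relIndex_of_card d4 (k := p) (by rw [cD, i2, sq])).dvd
  have d6 : Phi E = ⁅E, E⁆ := (eq_or_eq_of_relIndex_dvd j1 (commutator_le_Phi pg) d5).resolve_right fun k => by
    have hom : HomOn (· ^ p) E := fun x hx y hy => PGrp.mul_pow_prime hp.out h2 (cm y hy x hx x hx) (cm y hy x hx y hy)
      (d2 _ (commutator_mem_commutator hy hx))
    have chr : Chr E (hom.pre ⁅E, E⁆) := chr_of (hom.pre_le _) fun f f1 f2 y hy => ⟨f2.mem hy.1, by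
      have := ((chr_der E).2 f f1 f2).mem hy.2
      rwa [f1.map_pow hy.1] at this⟩
    obtain ⟨u, u1, u2, u3⟩ := exists_pow_mem (CS_le_centralizer E E) (fun x hx => ⟨d3 x hx, d3 x hx⟩) d1
      (fun x hx => pow_mem hx _) d4 hZ j1 hZ nZ (fun k => na (ab_of_relIndex hZ (le_cen_CS E) k))
    rcases e.nf.two' (k ▸ i3.dvd) (chr.sup (chr_Phi E)) le_sup_right with l | l
    · exact u2 (d5 (l.le (mem_sup_left ⟨u1, u3⟩)))
    · have l1 := eq_of_le_sup_Phi (hom.pre_le ⁅E, E⁆) l.ge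
      have l2 : Phi E ≤ ⁅E, E⁆ := (Phi_le_iff pg).2 ⟨le_rfl, fun x hx => (l1.ge hx).2⟩
      have := card_le_card (k.ge.trans l2)
      rw [cD, i2, ← pow_one p, ← pow_mul, Nat.pow_le_pow_iff_right hp.out.one_lt] at this
      omega
  exact ⟨hc, i2, d6 ▸ cD, d5, d6⟩

theorem Es.ty5 (e : Es F p E) (h2 : p ≠ 2) (hc : Nat.card S = p ^ 5) (na : NoAb p S) :
    (Nat.card E = p ^ 2 ∧ Phi E = ⊥) ∨ (Nat.card E = p ^ 3 ∧ ¬ E ≤ centralizer (E : Set Ω)) ∨ El3 F p E ∨ Q45 p E := by
  have := e.finite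
  obtain ⟨j, hj⟩ := IsPGroup.iff_card.1 e.pg
  have j4 : j < 5 := by
    have := card_lt_card e.lt
    rwa [hj, hc, Nat.pow_lt_pow_iff_right hp.out.one_lt] at this
  have hrel := Solv.card_mul_relIndex (Phi_le E)
  obtain ⟨i, h1, h3⟩ := (Nat.dvd_prime_pow hp.out).1 (Dvd.intro_left _ (hrel.trans hj))
  have bot : i = j → Phi E = ⊥ := fun k => card_eq_one.1 (Nat.eq_of_mul_eq_mul_right (pow_pos hp.out.pos j) (by
    rw [one_mul]; rwa [h3, k, hj] at hrel))
  by_cases hab : E ≤ centralizer (E : Set Ω)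
  · have j3 : j ≠ 4 := fun k => na E e.le hab (k ▸ hj)
    by_cases hi : (Phi E).relIndex E ∣ p ^ 2
    · obtain ⟨k, -, ⟨f⟩⟩ := e.nf.homocyclic e.pg hab hi
      have := Nat.card_congr f.toEquiv
      rw [Nat.card_congr Multiplicative.toAdd, Nat.card_prod, Nat.card_zmod, hj, ← pow_add,
        Nat.pow_right_inj hp.out.one_lt] at this
      obtain rfl : j = 2 := by omega
      exact .inl ⟨hj, bot (by
        by_contra l
        exact e.nf.phi (h3 ▸ (pow_dvd_pow p (by omega)).trans (pow_one p).dvd))⟩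
    · have hi3 : i = 3 := by
        by_contra l
        exact hi (h3 ▸ pow_dvd_pow p (by omega))
      obtain rfl : j = 3 := by omega
      exact .inr (.inr (.inl ⟨e, hab, fun x hx => mem_bot.1 (bot hi3 ▸ pow_mem_Phi e.pg hx), hj⟩))
  · have j2 : 2 < j := by
      by_contra l
      exact hab (ab_of_card (p := p) (hj ▸ pow_dvd_pow p (by omega)))
    rcases eq_or_ne j 3 with rfl | l
    · exact .inr (.inl ⟨hj, hab⟩)
    · obtain rfl : j = 4 := by omega
      exact .inr (.inr (.inr (e.q45 h2 hj hab)))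

end Cfsg.Agent.Fus
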