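import Cfsg.Agent.P5.B

/-! Pearls in groups of order `p ^ 5` (helper26). -/

set_option autoImplicit false

namespace Cfsg.Agent.Fus

open Subgroup Cfsg Cfsg.Agent.Loc Equiv
open Cfsg.FusionSystem (normalizerIn centralizerIn)
open scoped commutatorElement

variable {Ω : Type*} [Group Ω] {S Γ E Q R W : Subgroup Ω} {p m : ℕ} {F : FusionSystem S} {a f g k σ : Perm Ω}
  {t x y z e d : Ω} [hp : Fact p.Prime] [Finite S]

omit [Finite S] in
theorem p5_cg (hp' : y ^ p ∈ W) {i l : ℤ} (e : (i : ZMod p) = l) (h : (y ^ i)⁻¹ * x ∈ W) : (y ^ l)⁻¹ * x ∈ W := by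
  obtain ⟨c, hc⟩ := (ZMod.intCast_eq_intCast_iff_dvd_sub l i p).1 e.symm
  have := mul_mem (zpow_mem hp' c) h
  rwa [← zpow_natCast, ← zpow_mul, ← hc, show y ^ (i - l) * ((y ^ i)⁻¹ * x) = (y ^ l)⁻¹ * x by group] at this

omit [Finite S] in
theorem p5_ne0 {B : Subgroup Ω} (m : Maps g B B) (hx' : x ∉ B) (hp' : x ^ p ∈ B) {i : ℤ} (h : (x ^ i)⁻¹ * g x ∈ B) :
    (i : ZMod p) ≠ 0 := fun e => hx' ((m x).1 (by simpa using p5_cg (l := 0) hp' (by simpa using e) h))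

theorem MCl.chrΓ (c : MCl p S Γ 3) : Chr S Γ :=
  c.eq_C (by_contra fun k => by have := (c.g6 k).2.1; omega) ▸ Chr.cen ⟨Zs_le S 2, fun _ a b => a.maps_Zs b 2⟩

theorem MCl.wt3 (c : MCl p S Γ 3) (na : NoAb p S) (G : HomOn g S) (M : Maps g S S) :
    ∃ a b : ℤ, (a : ZMod p) = b ^ 2 ∧ (b : ZMod p) ≠ 0 ∧ (∀ y ∈ S, (y ^ b)⁻¹ * g y ∈ Γ) ∧
      (∀ y ∈ Γ, (y ^ a)⁻¹ * g y ∈ Zs S 3) ∧ (∀ y ∈ Zs S 2, (y ^ (b * (b * a)))⁻¹ * g y ∈ Zs S 1) ∧
      ∀ y ∈ Zs S 1, (y ^ (b * (b * (b * a))))⁻¹ * g y ∈ (⊥ : Subgroup Ω) := by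
  have hΓC : Γ ≤ centralizerIn S (Zs S 2) := by_contra fun k => by have := (c.g6 k).2.1; omega
  have mΓ := c.chrΓ.2 g G M
  have mZ := G.maps_Zs M
  have n := le_normalizer_Zs S
  obtain ⟨s, hs, hs'⟩ := SetLike.exists_of_lt (lt_of_le_of_ne c.le c.ne)
  obtain ⟨e, he, he'⟩ := SetLike.exists_of_lt (lt_of_le_of_ne c.zle c.ne'.symm)
  have heS := c.le he
  have iΓ := c.rel_of' c.zle c.le c.ne'
  have i3 := c.rel_of c.zle c.le c.ne
  have nΓ := c.chrΓ.le_normalizer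
  obtain ⟨u, hu, b, e1⟩ := exists_mul_zpow iΓ c.le nΓ hs hs' (M.mem hs)
  obtain ⟨v, hv, a, e0⟩ := exists_mul_zpow i3 c.zle (c.le.trans (n 3)) he he' (mΓ.mem he)
  have huS := c.le hu
  have w1 := mxe_right (nΓ (zpow_mem hs b)) hu e1
  have w0 := mxe_right (n 3 (zpow_mem heS a)) hv e0
  have a2 : ⁅s, e⁆ ∈ Zs S 3 := c.der ▸ commutator_mem_commutator hs heS
  have b2 : ⁅s, e⁆ ∉ Zs S 2 := fun k => hs' (c.g3' s hs e he he' k)
  have c2 := mxe_bil (n 2) hs heS huS (Zs_le S 3 hv) b a (fun r hr => mxe_zs hr a2)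
    (Zs_mono S (by omega) (c.derΓ (commutator_mem_commutator hu (e0 ▸ mΓ.mem he)))) (mxe_zs hs hv)
  rw [e1, e0, ← G.map_commutatorElement hs heS] at c2
  set s₂ := ⁅s, e⁆
  have hs₂ := Zs_le S 3 a2
  obtain ⟨w, hw, e2⟩ := mxe_left (n 2 (zpow_mem hs₂ _)) c2
  have a3 : ⁅s, s₂⁆ ∈ Zs S 2 := mxe_zs hs a2
  have b3 : ⁅s, s₂⁆ ∉ Zs S 1 := fun k => hs' (c.g3 s hs 1 le_rfl le_rfl _ a2 b2 k)
  have c3 := mxe_bil (n 1) hs hs₂ huS (Zs_le S 2 hw) b (b * a) (fun r hr => mxe_zs hr a3)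
    (c.g2 u hu 1 le_rfl le_rfl _ (e2 ▸ (mZ 3).mem a2)) (mxe_zs hs hw)
  rw [e1, e2, ← G.map_commutatorElement hs hs₂] at c3
  set s₃ := ⁅s, s₂⁆
  have hs₃ := Zs_le S 2 a3
  obtain ⟨w', hw', e3⟩ := mxe_left (n 1 (zpow_mem hs₃ _)) c3
  have a4 : ⁅s, s₃⁆ ∈ Zs S 1 := mxe_zs hs a3
  have b4 : ⁅s, s₃⁆ ∉ (⊥ : Subgroup Ω) := fun k => hs' (c.eq_C hΓC ▸ c.g4 s hs _ a3 b3 k)
  have c4 := mxe_bil mxe_nb hs hs₃ huS (Zs_le S 1 hw') b (b * (b * a)) (fun r hr => mxe_Z1 hr a4)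
    (commutatorElement_eq_one_iff_mul_comm.2 ((hΓC hu).2 _ (e3 ▸ (mZ 2).mem a3)).symm) (mxe_Z1 hs hw')
  rw [e1, e3, ← G.map_commutatorElement hs hs₃] at c4
  have i0 : (⊥ : Subgroup Ω).relIndex (Zs S 1) ∣ p := Zs_zero S ▸ (c.rel (k := 0) (by omega)).dvd
  have W4 : ∀ y ∈ Zs S 1, (y ^ (b * (b * (b * a))))⁻¹ * g y ∈ (⊥ : Subgroup Ω) := fun y hy =>
    p5_wt i0 bot_le ((Zs_le S 1).trans mxe_nb) (G.mono (Zs_le S 1)) G.maps_bot a4 b4 c4 hy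
  have a5 : ⁅e, s₂⁆ ∈ Zs S 1 := c.g2 e he 1 le_rfl le_rfl _ a2
  have b5 : ⁅e, s₂⁆ ∉ (⊥ : Subgroup Ω) := fun k => by
    have k1 : e ∈ centralizer (Zs S 3 : Set Ω) := by
      rw [← c.sup_lev (k := 2) (by omega) a2 b2, centralizer_sup']
      exact ⟨(hΓC he).2, le_centralizer_iff.1 (zpowers_le.2 fun y hy => by
        obtain ⟨i, rfl⟩ := hy
        exact ((commutatorElement_eq_one_iff_commute.1 k).zpow_left i).eq) (mem_zpowers e)⟩
    have k2 := c.sup_m c.zle c.le c.ne he he'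
    refine na Γ c.le (k2 ▸ sup_zpowers_ab c.Z3ab k1) ?_
    rw [← k2, PGrp.card_sup_zpowers hp.out (n 3 heS) he' (c.pw e heS), c.cZ 3 le_rfl, ← pow_succ]
  have c5 := mxe_bil mxe_nb heS hs₂ (Zs_le S 3 hv) (Zs_le S 2 hw) a (b * a) (fun r hr => mxe_Z1 hr a5)
    (commutatorElement_eq_one_iff_mul_comm.2 (c.Z3ab hv _ (e2 ▸ (mZ 3).mem a2)).symm)
    (commutatorElement_eq_one_iff_mul_comm.2 ((hΓC he).2 _ hw).symm)
  rw [e0, e2, ← G.map_commutatorElement heS hs₂] at c5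
  have k1 := mxe_exp b5 (Zs_zero S ▸ c.pow_lev (k := 0) (by omega) a5) c5 (W4 _ a5)
  have hb := p5_ne0 mΓ hs' (c.zle (c.pw s hs)) w1
  have ha := p5_ne0 (mZ 3) he' (c.pw e heS) w0
  refine ⟨a, b, ?_, hb, fun y hy => p5_wt iΓ c.le nΓ G mΓ hs hs' w1 hy,
    fun y hy => p5_wt i3 c.zle (c.le.trans (n 3)) (G.mono c.le) (mZ 3) he he' w0 hy,
    fun y hy => p5_wt (c.rel (k := 1) (by omega)).dvd (Zs_mono S (by omega)) ((Zs_le S 2).trans (n 1))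
      (G.mono (Zs_le S 2)) (mZ 1) a3 b3 c3 hy, W4⟩
  push_cast at k1
  exact mul_left_cancel₀ (mul_ne_zero ha hb) (by linear_combination k1)

theorem Es.ext5 (e : Es F p E) (ha : a ∈ AutF F E) (hn : cj a (AutK S E) ≤ AutK S E)
    (H : ∀ Q R, Es F p Q → Nat.card Q = Nat.card E → (Q ≤ centralizer (Q : Set Ω) → E ≤ centralizer (E : Set Ω)) →
      Es F p R → ¬ Q < R) : ∃ g, Iso F g S S ∧ ∀ x ∈ E, g x = a x := by
  obtain ⟨g, h1, h2⟩ := e.ext_NS ha hn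
  obtain ⟨k, h3, h4⟩ := e.sat.ext_S h1.mor fun k R hk hR c => by
    have K := hk.homOn.mono (le_NS e.le)
    have m := K.maps_img
    have q := e.iso hk m
    refine H _ R q m.card_eq.symm (fun ab y hy => ?_) ⟨e.sat, hR⟩ (lt_of_lt_of_le q.lt_NS fun y hy => ?_)
    · simpa using (K.inv m).mem_centralizer le_rfl m.symm (m.mem hy) (ab (m.mem hy))
    · obtain ⟨x, hx, rfl⟩ := (fn_maps_NS e.fn hk m).exists_eq hy
      exact c x hx
  exact ⟨k, h3, fun x hx => (h4 x (le_NS e.le hx)).trans (h2 x hx)⟩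

theorem Es.mcl5 (e : Es F p E) (hc : Nat.card S = p ^ 5) (h : (Nat.card E = p ^ 2 ∧ IsMulCommutative E) ∨
    (Nat.card E = p ^ 3 ∧ ¬ IsMulCommutative E)) : ∃ Γ, MCl p S Γ 3 ∧ ∃ x ∈ E, x ∉ Γ := by
  obtain ⟨n, x, -, h1, h2, h3⟩ := e.exists_unif h
  obtain rfl : n = 3 := by
    have := h1.card
    rw [hc, Nat.pow_right_inj hp.out.one_lt] at this
    omega
  exact ⟨_, h1.mcl le_rfl, x, h3, fun k => h2.2 1 le_rfl (by omega) ((mem_map_iff_mem S.subtype_injective).1 k)⟩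

theorem Es.p3_false (e : Es F p E) (h2 : p ≠ 2) (hc : Nat.card S = p ^ 5) (na : NoAb p S) (c3 : Nat.card E = p ^ 3)
    (nab : ¬ E ≤ centralizer (E : Set Ω)) : False := by
  have := e.finite
  obtain ⟨Γ, c, s, hs, hs'⟩ := e.mcl5 hc (.inr ⟨c3, fun k => nab (le_centralizer_iff_isMulCommutative.2 k)⟩)
  obtain ⟨d1, -, d3⟩ := es_data (es_of_card c3 nab)
  have := finite_of_le (Phi_le E)
  obtain ⟨σ, hσ, s1, s2⟩ := e.neg2 ((AutF_le_AutOn F E).trans (AutOn_le_Stab_Phi E)) (Phi_le E) le_rfl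
    (relIndex_of_card (Phi_le E) (k := p ^ 2) (by rw [d1, d3, c3]; ring)).dvd (by simp)
  obtain ⟨g, hg, eg⟩ := e.ext5 hσ s2 fun Q R q cQ aQ r lt => by
    have := r.finite
    have := q.finite
    have k := card_lt_card lt
    rw [cQ, c3] at k
    rcases r.ty5 h2 hc na with k1 | k1 | k1 | k1
    · rw [k1.1, Nat.pow_lt_pow_iff_right hp.out.one_lt] at k; omega
    · exact k.ne' k1.1
    · exact k.ne' k1.card
    · have k2 : centralizerIn R R ≤ centralizerIn Q Q := fun y hy =>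
        have := centralizer_anti lt.le hy.2
        ⟨q.CS_le ⟨r.le hy.1, this⟩, this⟩
      have := finite_of_le (Fus.CS_le Q Q)
      have := card_le_card k2
      rw [k1.cZ, (es_data (es_of_card (cQ.trans c3) fun l => nab (aQ l))).2.2, ← pow_one p, ← pow_mul,
        Nat.pow_le_pow_iff_right hp.out.one_lt] at this
      omega
  have z1 : Zs S 1 = Phi E := eq_of_le_of_card_le (d1 ▸ le_inf e.Z1_le (Zs_one S ▸
    (CS_le_centralizer S S).trans (centralizer_anti e.le))) (by rw [d1, d3, c.cZ 1 (by omega), pow_one])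
  obtain ⟨y, hy, hy'⟩ := c.exists_lev (k := 1) (by omega)
  have k0 : ∀ d ∈ E, ⁅y, d⁆ ∈ Phi E := fun d hd => z1 ▸ (mem_Zs_succ.1 hy).2 d (e.le hd)
  have hn : y ∈ normalizerIn S E := ⟨Zs_le S 2 hy, mem_normalizer_of_comm fun d hd => Phi_le E (k0 d hd)⟩
  have hyE := e.chain1 hn (tv_cr_of_comm hn.2 le_rfl k0)
  obtain ⟨a, b, k1, -, k2, -, k3, -⟩ := c.wt3 na hg.homOn hg.maps
  have neg : ∀ u ∈ E, (u ^ (-1 : ℤ))⁻¹ * g u ∈ Zs S 1 := fun u hu => by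
    rw [zpow_neg_one, inv_inv, eg u hu, z1]; exact s1 u hu
  have k4 := mxe_exp hs' (c.zle (c.pw s (e.le hs))) (k2 s (e.le hs)) (c.zle (Zs_mono S (by omega) (neg s hs)))
  have k5 := mxe_exp hy' (c.pow_lev (by omega) hy) (k3 y hy) (neg y hyE)
  push_cast at k4 k5
  rw [k1, k4] at k5
  exact mxe_ne h2 (by linear_combination -k5)

theorem Es.p2_ext (e : Es F p E) (h2 : p ≠ 2) (hc : Nat.card S = p ^ 5) (na : NoAb p S) (c2 : Nat.card E = p ^ 2)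
    (ha : a ∈ AutF F E) (hn : cj a (AutK S E) ≤ AutK S E) : ∃ g, Iso F g S S ∧ ∀ x ∈ E, g x = a x :=
  e.ext5 ha hn fun Q R q cQ _ r lt => by
    have := r.finite
    have := q.finite
    rcases r.ty5 h2 hc na with k1 | k1 | k1 | k1
    · exact (card_lt_card lt).ne (by rw [cQ, c2, k1.1])
    · exact r.p3_false h2 hc na k1.1 k1.2
    · exact lt.not_ge ((le_inf r.le (k1.ab.trans (centralizer_anti lt.le))).trans q.CS_le)
    · have k2 : centralizerIn R R ≤ Q := fun y hy => q.CS_le ⟨r.le hy.1, centralizer_anti lt.le hy.2⟩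
      have k3 := eq_of_le_of_card_le k2 (by rw [cQ, c2, k1.cZ])
      exact lt.not_ge ((le_inf r.le (k3 ▸ le_cen_CS R)).trans q.CS_le)

theorem Es.p2_neg (e : Es F p E) (h2 : p ≠ 2) (hc : Nat.card S = p ^ 5) (na : NoAb p S) (c2 : Nat.card E = p ^ 2)
    (hΦ : Phi E = ⊥) : ∃ σ ∈ AutF F E, (∀ y ∈ E, y * σ y ∈ Phi E) ∧ ∃ g, Iso F g S S ∧ ∀ x ∈ E, g x = σ x := by
  obtain ⟨σ, hσ, s1, s2⟩ := e.neg2 ((AutF_le_AutOn F E).trans (AutOn_le_Stab_Phi E)) (Phi_le E) le_rfl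
    (by rw [hΦ, relIndex_bot_left, c2]) (by simp)
  exact ⟨σ, hσ, s1, e.p2_ext h2 hc na c2 hσ s2⟩

theorem Es.all_gd (e : Es F p E) (h2 : p ≠ 2) (hc : Nat.card S = p ^ 5) (na : NoAb p S) : Gd5 F p E := by
  have := e.finite
  rcases e.ty5 h2 hc na with k | k | k | k
  · obtain ⟨σ, hσ, s1, g, hg, eg⟩ := e.p2_neg h2 hc na k.1 k.2
    exact e.gd5 h2 ((AutF_le_AutOn F E).trans (AutOn_le_Stab_Phi E)) (Phi_le E) le_rfl (by simp) (k.2 ▸ bot_le) hσ s1 hg eg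
  · exact (e.p3_false h2 hc na k.1 k.2).elim
  · obtain ⟨D, t, z, h⟩ := k.cg hc
    exact h.gd h2
  · have := finite_of_le (Phi_le E)
    have := finite_of_le (Fus.CS_le E E)
    have sZ := (AutF_le_AutOn F E).trans (chr_CS E).stab
    have i0 := (relIndex_of_card k.le (k := p) (by rw [k.cZ, k.cP, sq])).dvd
    obtain ⟨σ, hσ, s1, s2⟩ := e.neg2 sZ (Fus.CS_le E E) k.le
      (relIndex_of_card (Fus.CS_le E E) (k := p ^ 2) (by rw [k.cZ, k.card]; ring)).dvd i0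
    obtain ⟨g, hg, eg⟩ := e.ext_NS hσ s2
    rw [show normalizerIn S E = S from le_antisymm (NS_le _ _) (le_inf le_rfl (le_normalizer_of_relIndex e.sat.pg e.le
      (relIndex_of_card e.le (k := p) (by rw [hc, k.card, pow_succ])).dvd))] at hg
    exact e.gd5 h2 sZ (Fus.CS_le E E) k.le i0 (k.der ▸ commutator_mono e.le e.le) hσ s1 hg eg

theorem Es.p2_false (e : Es F p E) (h2 : p ≠ 2) (h7 : p ≠ 7) (hc : Nat.card S = p ^ 5) (na : NoAb p S)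
    (c2 : Nat.card E = p ^ 2) (hΦ : Phi E = ⊥) : F.focalSubgroup ≠ S := by
  have := e.finite
  obtain ⟨Γ, c, s, hs, hs'⟩ := e.mcl5 hc (.inl ⟨c2, le_centralizer_iff_isMulCommutative.1 (ab_of_card c2.dvd)⟩)
  have pw : ∀ y ∈ S, y ^ p ∈ Γ := fun y hy => c.zle (c.pw y hy)
  have z1 : Zs S 1 ≤ Γ := (Zs_mono S (by omega)).trans c.zle
  obtain rfl : p = 3 := by
    obtain ⟨t, z, h⟩ := (e.tv_of_card c2).exists_tvd
    obtain ⟨g₀, hg₀⟩ := e.exists_far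
    obtain ⟨σ, hσ, s1, s2⟩ := h.exists_two hg₀ h2
    obtain ⟨g, hg, eg⟩ := e.p2_ext h2 hc na c2 hσ.1 (h.cj_le hσ.1 (s1 ▸ pow_mem h.hz 2))
    have hw := (maps_of_AutF hg₀.1).mem h.hzP
    have hw' := h.far g₀ hg₀
    set w := g₀ z
    set H := E ⊓ centralizer (normalizerIn S E : Set Ω)
    have := finite_of_le h.leZ
    have k1 : Zs S 1 = H := eq_of_le_of_card_le (le_inf e.Z1_le (Zs_one S ▸ (CS_le_centralizer S S).trans
      (centralizer_anti (NS_le S E)))) (by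
        have := Solv.card_mul_relIndex h.leZ
        rw [((Nat.dvd_prime hp.out).1 h.idx).resolve_left fun k => hw' (relIndex_eq_one.1 k hw), c2, sq] at this
        rw [Nat.eq_of_mul_eq_mul_right hp.out.pos this, c.cZ 1 (by omega), pow_one])
    have hz := k1.ge h.hz
    have hwΓ : w ∉ Γ := fun k => hs' ((sup_zpowers_of_relIndex h.idx h.leZ hw hw').ge.trans
      (sup_le (k1.ge.trans z1) (zpowers_le.2 k)) hs)
    have G := hg.symm.homOn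
    have hzS := e.le h.hzP
    have hwS := e.le hw
    have e1 : g⁻¹ z ^ 2 = z := by rw [← G.map_pow hzS, ← s1, ← eg z h.hzP, perm_inv_apply]
    have e2 : z * g⁻¹ w = w ^ 2 := by
      have := congrArg (⇑g⁻¹) s2
      rw [← eg w hw, G.map_pow (hg.mem hwS), perm_inv_apply, G _ (pow_mem hzS 2) _ hwS, G.map_pow hzS, e1] at this
      exact this.symm
    obtain ⟨a, b, k2, -, k3, -, -, k4⟩ := c.wt3 na G hg.symm.maps
    have k5 := mxe_exp hwΓ (pw w hwS) (k3 w hwS) (l := 2) (mxe_right (c.chrΓ.le_normalizer (zpow_mem hwS 2))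
      (inv_mem (z1 hz)) (by rw [zpow_ofNat, ← e2, inv_mul_cancel_left]))
    have k6 := k4 z hz
    rw [mem_bot, inv_mul_eq_one] at k6
    rw [← k6, ← zpow_natCast, ← zpow_mul] at e1
    have k7 := mxe_exp (W := ⊥) (x := z) (l := 1) h.ne_one h.hzp (by rw [e1]; simp) (by simp)
    push_cast at k5 k7
    rw [k2, k5] at k7
    have k8 : ((63 : ℕ) : ZMod p) = 0 := by push_cast; linear_combination k7
    have k9 : p ∣ 3 * 3 * 7 := (ZMod.natCast_eq_zero_iff 63 p).1 k8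
    rcases (Nat.Prime.dvd_mul hp.out).1 k9 with l | l
    · exact (Nat.prime_dvd_prime_iff_eq hp.out Nat.prime_three).1 (((Nat.Prime.dvd_mul hp.out).1 l).elim id id)
    · exact absurd ((Nat.prime_dvd_prime_iff_eq hp.out (by norm_num)).1 l) h7
  obtain ⟨σ, hσ, s1, g, hg, eg⟩ := e.p2_neg h2 hc na c2 hΦ
  refine e.sat.foc_ne h2 c.le (c.der ▸ c.zle) (fun k => c.ne' (le_antisymm (c.der ▸ k) c.zle))
    ((AutF_le_AutOn F S).trans c.chrΓ.stab) hg (fun y hy => ?_) (fun a ha y hy => ?_)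
    fun R hR => Es.all_gd ⟨e.sat, hR⟩ h2 hc na
  · obtain ⟨a, b, -, -, k2, -⟩ := c.wt3 na hg.homOn hg.maps
    have k4 := mxe_exp hs' (pw s (e.le hs)) (k2 s (e.le hs)) (l := -1) (by
      rw [zpow_neg_one, inv_inv, eg s hs]; exact (hΦ.le.trans bot_le) (s1 s hs))
    simpa using p5_cg (pw y hy) k4 (k2 y hy)
  · obtain ⟨i, b, k1, k2, -, k3, -⟩ := c.wt3 na ha.homOn ha.maps
    have k4 : (i : ZMod 3) = (1 : ℤ) := by
      rw [k1, Int.cast_one]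
      exact ZMod.pow_card_sub_one_eq_one k2
    simpa [c.der] using p5_cg (c.pw y (c.le hy)) k4 (k3 y hy)

end Cfsg.Agent.Fus
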