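import Cfsg.Agent.P5.C

/-! Elementary abelian essential subgroups of order `p ^ 3` in groups of order `p ^ 5` (helper26). -/

set_option autoImplicit false

namespace Cfsg.Agent.Fus

open Subgroup Cfsg Cfsg.Agent.Loc Equiv
open Cfsg.FusionSystem (normalizerIn centralizerIn)
open scoped commutatorElement

variable {Ω : Type*} [Group Ω] {S E D P B C W : Subgroup Ω} {p m : ℕ} {F : FusionSystem S} {a f g k σ : Perm Ω}
  {s t x y z e d : Ω}

theorem p5_comm (h : Tv (cr P s) B C) (hs : s ∈ normalizer (P : Set Ω)) (hC : C ≤ P) (hy : y ∈ C) : ⁅s, y⁆ ∈ B := by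
  have := h y⁻¹ (inv_mem hy)
  rw [cr_apply hs (hC (inv_mem hy)), inv_inv] at this
  exact comm_mem_symm (by simpa only [commutatorElement_def, mul_assoc] using this)

theorem p5_zz (hW : S ≤ normalizer (W : Set Ω)) (hx : x ∈ S) (hy : y ∈ S) (h : ⁅x, y⁆ ∈ W) : ⁅zpowers x, zpowers y⁆ ≤ W :=
  commutator_le.2 (by
    rintro _ ⟨i, rfl⟩ _ ⟨j, rfl⟩
    have := mxe_bil hW hx hy (one_mem S) (one_mem S) i j (fun s hs => comm_mem_of_normalizer (hW hs) h) (by simp) (by simp)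
    rw [one_mul, one_mul] at this
    exact (mul_mem_cancel_left (inv_mem (zpow_mem h _))).1 this)

variable [hp : Fact p.Prime] [Finite S]

/-- The group of order `p ^ 5` and class three with `|Z₂| = p ^ 3`. -/
structure X5 (p : ℕ) (S : Subgroup Ω) (x e : Ω) : Prop where
  pg : IsPGroup p S
  c1 : Nat.card (Zs S 1) = p
  ab : Zs S 2 ≤ centralizer (Zs S 2 : Set Ω)
  hx : x ∈ centralizerIn S ⁅S, S⁆
  hx' : x ∉ Zs S 2
  he : e ∈ S
  he' : e ∉ centralizerIn S ⁅S, S⁆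
  hd : ⁅x, e⁆ ∉ Zs S 1
  l1 : Zs S 1 ≤ ⁅S, S⁆
  l2 : ⁅S, S⁆ ≤ Zs S 2
  i1 : (Zs S 1).relIndex ⁅S, S⁆ ∣ p
  i2 : (⁅S, S⁆).relIndex (Zs S 2) = p
  i3 : (Zs S 2).relIndex (centralizerIn S ⁅S, S⁆) ∣ p
  i4 : (centralizerIn S ⁅S, S⁆).relIndex S ∣ p
  na : x ∉ centralizer (Zs S 2 : Set Ω)

namespace X5

variable (h : X5 p S x e)
include h

omit hp [Finite S] in
theorem l3 : Zs S 2 ≤ centralizerIn S ⁅S, S⁆ := le_inf (Zs_le S 2) (h.ab.trans (centralizer_anti h.l2))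

theorem wt (G : HomOn g S) (M : Maps g S S) : ∃ a b c : ℤ, (c : ZMod p) = b ^ 2 ∧ (b : ZMod p) ≠ 0 ∧
    (x ^ a)⁻¹ * g x ∈ Zs S 2 ∧ (e ^ b)⁻¹ * g e ∈ centralizerIn S ⁅S, S⁆ ∧ (∀ y ∈ Zs S 2, (y ^ c)⁻¹ * g y ∈ ⁅S, S⁆) ∧
      ∀ y ∈ Zs S 1, (y ^ (b * (a * b)))⁻¹ * g y ∈ (⊥ : Subgroup Ω) := by
  have n := le_normalizer_Zs S
  have mZ := G.maps_Zs M
  have cD := chr_der S
  have mD := cD.2 g G M
  have mC := cD.cen.2 g G M
  have nD := cD.le_normalizer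
  have nC := cD.cen.le_normalizer
  have hxS : x ∈ S := h.hx.1
  have heS := h.he
  obtain ⟨u, hu, a, e1⟩ := exists_mul_zpow h.i3 h.l3 ((CS_le _ _).trans (n 2)) h.hx h.hx' (mC.mem h.hx)
  obtain ⟨v, hv, b, e2⟩ := exists_mul_zpow h.i4 (CS_le _ _) nC heS h.he' (M.mem heS)
  have huS := Zs_le S 2 hu
  have w1 := mxe_right (n 2 (zpow_mem hxS a)) hu e1
  have w2 := mxe_right (nC (S.zpow_mem heS b)) hv e2
  have a1 := commutator_mem_commutator hxS heS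
  have k0 : ⁅x, v⁆ ∈ Zs S 1 := by
    have k := sup_zpowers_of_relIndex h.i3 h.l3 h.hx h.hx'
    exact commutator_le.1 (commutator_sup_right_le (C := zpowers x) ((Zs_le S 2).trans (n 1)) ((zpowers_le.2 hxS).trans (n 1))
      (commutator_le.2 fun r hr w hw => mxe_zs (zpowers_le.2 hxS hr) hw)
      (commutator_le_of_le_centralizer (le_centralizer_iff_isMulCommutative.2 inferInstance) _)) x (mem_zpowers x) v (k.ge hv)
  have c1 := mxe_bil (n 1) hxS heS huS hv.1 a b (fun r hr => mxe_zs hr (h.l2 a1))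
    (comm_mem_symm (mxe_zs (e2 ▸ M.mem heS) hu)) k0
  rw [e1, e2, ← G.map_commutatorElement hxS heS] at c1
  set d := ⁅x, e⁆
  have hdS := cD.1 a1
  obtain ⟨w, hw, e3⟩ := mxe_left (n 1 (zpow_mem hdS _)) c1
  have eD := sup_zpowers_of_relIndex h.i1 h.l1 a1 h.hd
  have Z1 : Zs S 1 ≤ centralizer (S : Set Ω) := Zs_one S ▸ CS_le_centralizer S S
  have a2 : ⁅e, d⁆ ∈ Zs S 1 := mxe_zs heS (h.l2 a1)
  have b2 : ⁅e, d⁆ ∉ (⊥ : Subgroup Ω) := fun k => h.he' ⟨heS, by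
    rw [← eD, centralizer_sup']
    exact ⟨le_centralizer_iff.1 Z1 heS, le_centralizer_iff.1 (zpowers_le.2 fun y hy => by
      obtain ⟨i, rfl⟩ := hy
      exact ((commutatorElement_eq_one_iff_commute.1 k).zpow_left i).eq) (mem_zpowers e)⟩⟩
  have c2 := mxe_bil mxe_nb heS hdS hv.1 (Zs_le S 1 hw) b (a * b) (fun r hr => mxe_Z1 hr a2)
    (commutatorElement_eq_one_iff_mul_comm.2 (hv.2 _ (e3 ▸ mD.mem a1)).symm) (mxe_Z1 heS hw)
  rw [e2, e3, ← G.map_commutatorElement heS hdS] at c2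
  have i0 : (⊥ : Subgroup Ω).relIndex (Zs S 1) ∣ p := by rw [relIndex_bot_left, h.c1]
  have W4 : ∀ y ∈ Zs S 1, (y ^ (b * (a * b)))⁻¹ * g y ∈ (⊥ : Subgroup Ω) := fun y hy =>
    p5_wt i0 bot_le ((Zs_le S 1).trans mxe_nb) (G.mono (Zs_le S 1)) G.maps_bot a2 b2 c2 hy
  obtain ⟨r, hr, hr'⟩ : ∃ r ∈ Zs S 2, r ∉ ⁅S, S⁆ := by
    by_contra! k
    exact hp.out.ne_one (h.i2.symm.trans (relIndex_eq_one.2 k))
  have hrS := Zs_le S 2 hr
  have nD' := (Zs_le S 2).trans nD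
  obtain ⟨w', hw', c, e4⟩ := exists_mul_zpow h.i2.dvd h.l2 nD' hr hr' ((mZ 2).mem hr)
  have a3 : ⁅x, r⁆ ∈ Zs S 1 := mxe_zs hxS hr
  have b3 : ⁅x, r⁆ ∉ (⊥ : Subgroup Ω) := fun k => h.na (by
    rw [← sup_zpowers_of_relIndex h.i2.dvd h.l2 hr hr', centralizer_sup']
    exact ⟨h.hx.2, le_centralizer_iff.1 (zpowers_le.2 fun y hy => by
      obtain ⟨i, rfl⟩ := hy
      exact ((commutatorElement_eq_one_iff_commute.1 k).zpow_left i).eq) (mem_zpowers x)⟩)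
  have c3 := mxe_bil mxe_nb hxS hrS huS (cD.1 hw') a c (fun r hr => mxe_Z1 hr a3)
    (commutatorElement_eq_one_iff_mul_comm.2 (h.ab hu _ (e4 ▸ (mZ 2).mem hr)).symm)
    (commutatorElement_eq_one_iff_mul_comm.2 (h.hx.2 _ hw').symm)
  rw [e1, e4, ← G.map_commutatorElement hxS hrS] at c3
  have k1 := mxe_exp b3 (pow_mem_of_relIndex i0 ((Zs_le S 1).trans mxe_nb) a3) c3 (W4 _ a3)
  have ha := p5_ne0 (mZ 2) h.hx' (pow_mem_of_relIndex h.i3 ((CS_le _ _).trans (n 2)) h.hx) w1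
  refine ⟨a, b, c, ?_, p5_ne0 mC h.he' (pow_mem_of_relIndex h.i4 nC heS) w2, w1, w2, fun y hy =>
    p5_wt h.i2.dvd h.l2 nD' (G.mono (Zs_le S 2)) mD hr hr' (mxe_right (nD (zpow_mem hrS c)) hw' e4) hy, W4⟩
  push_cast at k1
  exact mul_left_cancel₀ ha (by linear_combination k1)

end X5

namespace Cg5

variable (h : Cg5 F p E D t z)
include h

omit hp [Finite S] in
theorem sigz (hσ : σ ∈ AutF F E) {l : ℤ} (hz : σ z = z ^ l) (hy : y ∈ zpowers z) : (y ^ l)⁻¹ * σ y ∈ (⊥ : Subgroup Ω) := by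
  obtain ⟨i, rfl⟩ := hy
  simp only
  rw [(homOn_of_AutF hσ).map_zpow h.hzP, hz, ← zpow_mul, ← zpow_mul, mul_comm i, inv_mul_cancel]
  exact one_mem _

theorem x5 (h2 : p ≠ 2) (hc : Nat.card S = p ^ 5) (na : NoAb p S) (he : e ∈ E) (he' : e ∉ D) :
    ∃ x, X5 p S x e ∧ Zs S 1 = zpowers z ∧ Zs S 2 = D ∧ ¬ E ⊓ D ≤ ⁅S, S⁆ := by
  have := h.finite
  have := finite_of_le h.leD
  have pg := h.sat.pg
  have hN := le_NS h.le
  have hNS := NS_le S E
  have NN : ∀ s ∈ S, s ∈ normalizerIn S (normalizerIn S E) := fun s hs => ⟨hs, h.nN hs⟩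
  have hH : E ⊓ D ≤ normalizerIn S E := inf_le_left.trans hN
  have abD : D ≤ centralizer (D : Set Ω) := ab_of_relIndex inf_le_right (h.Z3_le.trans h.cen) h.iH.dvd
  have dN : ⁅normalizerIn S E, normalizerIn S E⁆ = zpowers z := le_antisymm (by
    rw [← h.hN, commutator_sup_self_of_abelian h.ab abD]
    exact commutator_le.2 fun a ha b hb => comm_mem_symm (h.comm_z (h.Z3_le hb) ha)) (zpowers_le.2 h.z_der)
  have cN : ∀ a ∈ normalizerIn S E, ∀ b ∈ normalizerIn S E, ⁅a, b⁆ ∈ zpowers z := fun a ha b hb =>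
    dN ▸ commutator_mem_commutator ha hb
  have nC : ∀ B, Chr (normalizerIn S E) B → S ≤ normalizer (B : Set Ω) := fun B hB s hs =>
    maps_cp_iff.1 (hB.2 _ (homOn_cp s _) (maps_cp (h.nN hs)))
  have nL : S ≤ normalizer (zpowers z : Set Ω) := dN ▸ nC _ (chr_der _)
  have nH := nC _ h.chrH
  have hL : zpowers z ≤ E ⊓ D := zpowers_le.2 h.hz
  have := finite_of_le (inf_le_left : E ⊓ D ≤ E)
  have := finite_of_le hL
  have zL := le_centralizer_of_card pg nL h.card_z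
  have iL := (relIndex_of_card hL (k := p) (by rw [h.card_z, h.cH, sq])).dvd
  have cH : ∀ s ∈ S, ∀ y ∈ E ⊓ D, ⁅s, y⁆ ∈ zpowers z := fun s hs y hy =>
    p5_comm (mxe_tv h.sat hNS (NN s hs) hH ((maps_cp (nL hs)).congr fun _ k => cr_apply (h.nN hs) (hH (hL k)))
      (h.mapsH (cr_mem_AutF F hNS (NN s hs))) ((hH.trans hNS).trans nL) iL) (h.nN hs) hH hy
  have cD : ∀ s ∈ S, ∀ y ∈ D, ⁅s, y⁆ ∈ E ⊓ D := fun s hs y hy => p5_comm (h.tvH (NN s hs)) (h.nN hs) h.Z3_le hy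
  have cN' : ∀ s ∈ S, ∀ y ∈ normalizerIn S E, ⁅s, y⁆ ∈ D := fun s hs y hy =>
    p5_comm (h.tvD (NN s hs)) (h.nN hs) le_rfl hy
  have nd : ∀ s ∈ S, ∀ e ∈ E, e ∉ D → ⁅s, e⁆ ∈ E → s ∈ normalizerIn S E := fun s hs e he he' k =>
    h.nrm he he' (NN s hs) (by
      rw [cr_apply (h.nN hs) (hN he), show s * e * s⁻¹ = ⁅s, e⁆ * e by rw [commutatorElement_def]; group]
      exact mul_mem k he)
  have iN := (relIndex_of_card hNS (k := p) (by rw [hc, h.cN, pow_succ])).dvd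
  obtain ⟨x₀, hx₀, hx₀'⟩ := SetLike.exists_of_lt h.ltS
  have sN := sup_zpowers_of_relIndex iN hNS hx₀ hx₀'
  have lb : ∀ s ∈ S, ∀ y ∈ zpowers z, ⁅s, y⁆ ∈ (⊥ : Subgroup Ω) := fun s hs y hy =>
    commutatorElement_eq_one_iff_mul_comm.2 (zL hy s hs)
  have bb : ∀ d ∈ D, d ∉ E → ∀ w ∈ E, w ∉ D → ⁅d, w⁆ ∉ (⊥ : Subgroup Ω) := fun d a1 b1 w hw hw' k =>
    b1 (h.CS_le ⟨h.leD a1, by
      rw [← h.supE hw hw', centralizer_sup', centralizer_zpowers]
      exact ⟨h.cen (h.Z3_le a1), mem_centralizer_singleton_iff.2 (commutatorElement_eq_one_iff_mul_comm.1 k)⟩⟩)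
  have cSD : ∀ s ∈ S, ∀ y ∈ D, ⁅s, y⁆ ∈ zpowers z := by
    obtain ⟨g₀, hg₀⟩ := h.exists_far
    obtain ⟨σ, hσ, s1, s2⟩ := h.exists_neg hg₀
    obtain ⟨g, hg, eg⟩ := h.ext hσ.1 (s1 ▸ inv_mem h.hz)
    have G := hg.homOn
    have hw := (maps_of_AutF hg₀.1).mem h.hzP
    have hw' : g₀ z ∉ D := fun k => h.far g₀ hg₀ ⟨hw, k⟩
    set w := g₀ z
    have hwS := h.le hw
    obtain ⟨u, hu, α, e1⟩ := exists_mul_zpow iN hNS h.nN hx₀ hx₀' (hg.mem hx₀)
    have a1 := cN' x₀ hx₀ w (hN hw)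
    have b1 : ⁅x₀, w⁆ ∉ E := fun k => hx₀' (nd x₀ hx₀ w hw hw' k)
    have hw1 : 1 * w ^ (-1 : ℤ) ∈ E := mul_mem (one_mem _) (zpow_mem hw _)
    have c1 := mxe_bil nH hx₀ hwS hu.1 (one_mem S) α (-1) (fun r hr => cD r hr _ a1) (hL (cN u hu _ (hN hw1))) (by simp)
    rw [e1, one_mul, zpow_neg_one, ← s2, ← eg w hw, ← G.map_commutatorElement hx₀ hwS] at c1
    set d₀ := ⁅x₀, w⁆
    have hd₀ := h.leD a1
    obtain ⟨v, hv, e2⟩ := mxe_left (nH (zpow_mem hd₀ _)) c1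
    have a2 := cN _ (h.Z3_le a1) w (hN hw)
    have b2 := bb _ a1 b1 w hw hw'
    have c2 := mxe_bil mxe_nb hd₀ hwS (h.le hv.1) (one_mem S) (α * -1) (-1) (fun r hr => lb r hr _ a2)
      (commutatorElement_eq_one_iff_mul_comm.2 (h.ab hv.1 _ hw1).symm) (by simp)
    rw [e2, one_mul, zpow_neg_one, ← s2, ← eg w hw, ← G.map_commutatorElement hd₀ hwS, eg _ (hL a2).1] at c2
    have k1 := mxe_exp b2 (h.ex _ (hL a2).1) c2 (h.sigz hσ.1 (l := -1) (by rw [s1, zpow_neg_one]) a2)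
    have a3 := cD x₀ hx₀ _ a1
    have c3 := mxe_bil nL hx₀ hd₀ hu.1 (h.le hv.1) α (α * -1) (fun r hr => cH r hr _ a3)
      (cN u hu _ (h.Z3_le (mul_mem hv.2 (zpow_mem a1 _)))) (cH x₀ hx₀ v hv)
    rw [e1, e2, ← G.map_commutatorElement hx₀ hd₀, eg _ a3.1] at c3
    have a4 : ⁅x₀, d₀⁆ ∈ zpowers z := by_contra fun k => by
      have k2 := mxe_exp k (h.ex _ a3.1 ▸ one_mem _) c3 (h.sig hσ (s1 ▸ inv_mem (mem_zpowers z)) a3)
      push_cast at k1 k2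
      exact mxe_ne h2 (by linear_combination k2 + (α - 1) * k1)
    have sD := sup_zpowers_of_relIndex h.iH.dvd inf_le_right a1 fun k => b1 k.1
    have : ⁅S, D⁆ ≤ zpowers z := by
      rw [← sN]
      refine commutator_sup_left_le (hNS.trans nL) ((zpowers_le.2 hx₀).trans nL)
        (commutator_le.2 fun a ha b hb => cN a ha b (h.Z3_le hb)) ?_
      rw [← sD]
      exact commutator_sup_right_le ((hH.trans hNS).trans nL) ((zpowers_le.2 hd₀).trans nL)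
        (commutator_le.2 fun a ha b hb => cH a (zpowers_le.2 hx₀ ha) b hb) (p5_zz nL hx₀ hd₀ a4)
    exact commutator_le.1 this
  have heS := h.le he
  have a1 := cN' x₀ hx₀ e (hN he)
  have b1 : ⁅x₀, e⁆ ∉ E := fun k => hx₀' (nd x₀ hx₀ e he he' k)
  set d₀ := ⁅x₀, e⁆ with hd
  have hd₀ := h.leD a1
  have hW : zpowers z ⊔ zpowers d₀ ≤ D := sup_le (hL.trans inf_le_right) (zpowers_le.2 a1)
  have := finite_of_le hW
  have nW : S ≤ normalizer ((zpowers z ⊔ zpowers d₀ : Subgroup Ω) : Set Ω) := fun s hs =>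
    mem_normalizer_of_comm fun c hc => mem_sup_left (cSD s hs c (hW hc))
  have sN' := h.supN he he'
  have eD : ⁅S, S⁆ = zpowers z ⊔ zpowers d₀ := by
    refine le_antisymm ?_ (sup_le (dN ▸ commutator_mono hNS hNS) (zpowers_le.2 (commutator_mem_commutator hx₀ heS)))
    have n1 := hNS.trans nW
    have n2 := (zpowers_le.2 hx₀).trans nW
    have k1 : ⁅zpowers x₀, normalizerIn S E⁆ ≤ zpowers z ⊔ zpowers d₀ := by
      rw [← sN']
      exact commutator_sup_right_le (h.leD.trans nW) ((zpowers_le.2 heS).trans nW)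
        (commutator_le.2 fun a ha b hb => mem_sup_left (cSD a (zpowers_le.2 hx₀ ha) b hb))
        (p5_zz nW hx₀ heS (mem_sup_right (mem_zpowers _)))
    rw [← sN]
    exact commutator_sup_left_le n1 n2 (commutator_sup_right_le n1 n2 (dN.le.trans le_sup_left)
      ((commutator_comm_le _ _).trans k1)) (commutator_sup_right_le n1 n2 k1
        (commutator_le_of_le_centralizer (le_centralizer_iff_isMulCommutative.2 inferInstance) _))
  have b1' : d₀ ∉ zpowers z := fun k => b1 (hL k).1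
  have dp : d₀ ^ p ∈ zpowers z := by
    have := mxe_bil nL hx₀ heS (one_mem S) (one_mem S) 1 p (fun r hr => cSD r hr _ a1) (by simp) (by simp)
    simpa [h.ex e he] using this
  have cS : Nat.card (⁅S, S⁆ : Subgroup Ω) = p ^ 2 := by
    rw [eD, PGrp.card_sup_zpowers hp.out (nL hd₀) b1' dp, h.card_z, sq]
  have hSD : ⁅S, S⁆ ≤ D := eD ▸ hW
  have := finite_of_le hSD
  have dS : d₀ ∈ ⁅S, S⁆ := commutator_mem_commutator hx₀ heS
  have eC : centralizerIn S ⁅S, S⁆ = centralizer ({d₀} : Set Ω) ⊓ S := le_antisymm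
    (fun y hy => ⟨centralizer_le (Set.singleton_subset_iff.2 dS) hy.2, hy.1⟩) fun y hy => ⟨hy.2, by
      rw [eD, centralizer_sup']
      exact ⟨le_centralizer_iff.1 zL hy.2, by rw [centralizer_zpowers]; exact hy.1⟩⟩
  have i4 : (centralizerIn S ⁅S, S⁆).relIndex S ∣ p := by
    rw [eC, inf_relIndex_right, ← h.card_z]
    exact relIndex_cen_dvd zL fun s hs => comm_mem_symm (cSD s hs _ a1)
  have eC' : e ∉ centralizerIn S ⁅S, S⁆ := fun k =>
    bb _ a1 b1 e he he' (commutatorElement_eq_one_iff_mul_comm.2 (k.2 _ dS))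
  have cC : Nat.card (centralizerIn S ⁅S, S⁆) = p ^ 4 := by
    have := Solv.card_mul_relIndex (CS_le S ⁅S, S⁆)
    rw [((Nat.dvd_prime hp.out).1 i4).resolve_left fun k => eC' (relIndex_eq_one.1 k heS), hc, pow_succ] at this
    exact Nat.eq_of_mul_eq_mul_right hp.out.pos this
  have hDC : D ≤ centralizerIn S ⁅S, S⁆ := le_inf h.leD (abD.trans (centralizer_anti hSD))
  have i3 := relIndex_of_card hDC (k := p) (by rw [cC, h.cD, pow_succ])
  obtain ⟨x, hx, hx'⟩ : ∃ x ∈ centralizerIn S ⁅S, S⁆, x ∉ D := by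
    by_contra! k
    exact hp.out.ne_one (i3.symm.trans (relIndex_eq_one.2 k))
  have xN : x ∉ normalizerIn S E := fun k =>
    eC' ((sup_zpowers_of_relIndex h.iD.dvd h.Z3_le k hx').ge.trans (sup_le hDC (zpowers_le.2 hx)) (hN he))
  have na' : x ∉ centralizer (D : Set Ω) := fun k => na _ (CS_le _ _) (by
    rw [← sup_zpowers_of_relIndex i3.dvd hDC hx hx']; exact sup_zpowers_ab abD k) cC
  have Z1 : Zs S 1 = zpowers z := by
    rw [Zs_one]
    refine (eq_or_eq_of_relIndex_dvd iL (le_inf (hL.trans (hH.trans hNS)) zL) fun y hy => h.ZN.le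
      ⟨hN (h.CS_le ⟨hy.1, centralizer_anti h.le hy.2⟩), centralizer_anti hNS hy.2⟩).resolve_right fun k => na' ?_
    rw [← sup_zpowers_of_relIndex h.iH.dvd inf_le_right a1 fun k => b1 k.1, centralizer_sup', centralizer_zpowers]
    exact ⟨k ▸ le_cen_CS S hx.1, (eC.le hx).1⟩
  have Z2' : D ≤ Zs S 2 := fun y hy => mem_Zs_succ.2 ⟨h.leD hy, fun s hs => Z1 ▸ comm_mem_symm (cSD s hs y hy)⟩
  have Z2 : Zs S 2 = D := le_antisymm (fun y hy => by_contra fun k => by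
    have yN := nd y (Zs_le S 2 hy) e he he' (hL (Z1.le ((mem_Zs_succ.1 hy).2 e heS))).1
    exact b1' (Z1.le (mxe_zs hx₀ ((sup_zpowers_of_relIndex h.iD.dvd h.Z3_le yN k).ge.trans
      (sup_le Z2' (zpowers_le.2 hy)) (hN he))))) Z2'
  have l1 : zpowers z ≤ ⁅S, S⁆ := eD ▸ le_sup_left
  refine ⟨x, ?_, Z1, Z2, fun k => b1 ((eq_of_le_of_card_le k (by rw [cS, h.cH])).ge dS).1⟩
  exact ⟨pg, Z1 ▸ h.card_z, Z2 ▸ abD, hx, Z2 ▸ hx', heS, eC', fun k => xN (nd x hx.1 e he he' (hL (Z1.le k)).1),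
    Z1 ▸ l1, Z2 ▸ hSD, Z1 ▸ (relIndex_of_card l1 (k := p) (by rw [cS, h.card_z, sq])).dvd,
    Z2 ▸ relIndex_of_card hSD (by rw [cS, h.cD, pow_succ]), Z2 ▸ i3.dvd, i4, Z2 ▸ na'⟩

end Cg5

theorem El3.foc_ne (h : El3 F p E) (h2 : p ≠ 2) (hc : Nat.card S = p ^ 5) (na : NoAb p S) : F.focalSubgroup ≠ S := by
  obtain ⟨D, t, z, c⟩ := h.cg hc
  obtain ⟨g₀, hg₀⟩ := c.exists_far
  have hw := (maps_of_AutF hg₀.1).mem c.hzP
  have hw' : g₀ z ∉ D := fun k => c.far g₀ hg₀ ⟨hw, k⟩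
  obtain ⟨x, X, Z1, Z2, nH⟩ := c.x5 h2 hc na hw hw'
  have hwS := c.le hw
  have hz : z ∈ Zs S 1 := Z1.ge (mem_zpowers z)
  have nC := (chr_der S).cen.le_normalizer
  have wp : g₀ z ^ p ∈ centralizerIn S ⁅S, S⁆ := c.ex _ hw ▸ one_mem _
  obtain rfl : p = 3 := by
    obtain ⟨σ, hσ, s1, s2⟩ := c.exists_two hg₀ h2
    obtain ⟨g, hg, eg⟩ := c.ext hσ.1 (s1 ▸ pow_mem c.hz 2)
    set w := g₀ z
    have G := hg.symm.homOn
    have hzS := c.le c.hzP
    have e1 : g⁻¹ z ^ 2 = z := by rw [← G.map_pow hzS, ← s1, ← eg z c.hzP, perm_inv_apply]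
    have e2 : z * g⁻¹ w = w ^ 2 := by
      have := congrArg (⇑g⁻¹) s2
      rw [← eg w hw, G.map_pow (hg.mem hwS), perm_inv_apply, G _ (pow_mem hzS 2) _ hwS, G.map_pow hzS, e1] at this
      exact this.symm
    obtain ⟨a, b, i, k1, -, -, k3, k4, -⟩ := X.wt G hg.symm.maps
    have k5 := mxe_exp X.he' wp k3 (l := 2) (mxe_right (nC (zpow_mem hwS 2))
      (inv_mem (X.l3 (X.l2 (X.l1 hz)))) (by rw [zpow_ofNat, ← e2, inv_mul_cancel_left]))
    obtain ⟨y, hy, hy'⟩ := SetLike.not_le_iff_exists.1 nH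
    have k6 := X.l1 (Z1.ge (c.sig hσ (s1 ▸ pow_mem (mem_zpowers z) 2) hy))
    rw [← eg y hy.1] at k6
    have k7 := ((chr_der S).2 _ G hg.symm.maps).mem k6
    rw [G.map_inv_mul (zpow_mem (c.le hy.1) 1) (hg.mem (c.le hy.1)), perm_inv_apply, zpow_one] at k7
    have k8 := mxe_exp hy' (c.ex y hy.1 ▸ one_mem _) (k4 y (Z2.ge hy.2)) (l := 1) (by simpa using inv_mem k7)
    push_cast at k5 k8
    rw [k8, k5] at k1
    have k9 : ((3 : ℕ) : ZMod p) = 0 := by push_cast; linear_combination -k1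
    exact (Nat.prime_dvd_prime_iff_eq hp.out Nat.prime_three).1 ((ZMod.natCast_eq_zero_iff 3 p).1 k9)
  obtain ⟨σ, hσ, s1, s2⟩ := c.exists_neg hg₀
  obtain ⟨g, hg, eg⟩ := c.ext hσ.1 (s1 ▸ inv_mem c.hz)
  set w := g₀ z
  refine c.sat.foc_ne h2 (Zs_le S 2) X.l2 (fun k => nH (inf_le_right.trans (Z2.ge.trans k)))
    (fun a ha => (homOn_of_AutF ha).maps_Zs (maps_of_AutF ha) 2) hg (fun y hy => ?_) (fun a ha y hy => ?_)
    fun R hR => Es.all_gd ⟨c.sat, hR⟩ h2 hc na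
  · have H := hg.homOn
    obtain ⟨a, b, i, -, -, k2, k3, -, k4⟩ := X.wt H hg.maps
    have k5 := mxe_exp X.he' wp k3 (l := -1) (by rw [eg w hw, s2]; simp)
    have k6 := mxe_exp (W := ⊥) (l := -1) c.ne_one c.hzp (k4 z hz) (by rw [eg z c.hzP, s1]; simp)
    push_cast at k5 k6
    have k7 := p5_cg (pow_mem_of_relIndex X.i3 ((CS_le _ _).trans (le_normalizer_Zs S 2)) X.hx) (l := -1) (by
      rw [k5] at k6; push_cast; linear_combination k6) k2
    obtain ⟨V, _, μ, hμ, K⟩ := p5_mu (le_normalizer_Zs S 2) X.l2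
    have hν : HomOn (fun y => μ y * μ (g y)) S := fun a ha b hb => by
      simp only
      rw [H a ha b hb, hμ a ha b hb, hμ _ (hg.mem ha) _ (hg.mem hb), mul_mul_mul_comm]
    have mem : ∀ y ∈ S, y ∈ hν.pre ⊥ ↔ y * g y ∈ Zs S 2 := fun y hy => by
      rw [← K _ (mul_mem hy (hg.mem hy)), hμ _ hy _ (hg.mem hy)]
      exact ⟨fun k => mem_bot.1 k.2, fun k => ⟨hy, mem_bot.2 k⟩⟩
    refine (mem y hy).1 ((sup_zpowers_of_relIndex X.i4 (CS_le _ _) X.he X.he').ge.trans (sup_le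
      ((sup_zpowers_of_relIndex X.i3 X.l3 X.hx X.hx').ge.trans (sup_le (fun u hu => (mem u (Zs_le S 2 hu)).2
        (mul_mem hu ((H.maps_Zs hg.maps 2).mem hu))) (zpowers_le.2 ((mem x X.hx.1).2 (by simpa using k7)))))
      (zpowers_le.2 ((mem w hwS).2 (by rw [eg w hw, s2]; simp)))) hy)
  · obtain ⟨i, b, l, k1, k2, -, -, k3, -⟩ := X.wt ha.homOn ha.maps
    have k4 : (l : ZMod 3) = (1 : ℤ) := by
      rw [k1, Int.cast_one]
      exact ZMod.pow_card_sub_one_eq_one k2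
    simpa using p5_cg (pow_mem_of_relIndex X.i2.dvd ((Zs_le S 2).trans (chr_der S).le_normalizer) hy) k4 (k3 y hy)

theorem Sat.noAb_false (hF : Sat F p) (h2 : p ≠ 2) (h7 : p ≠ 7) (hc : Nat.card S = p ^ 5) (hcore : F.core = ⊥)
    (hfoc : F.focalSubgroup = S) (na : NoAb p S) : False := by
  have all : ∀ E, Es F p E → Q45 p E := fun E e => by
    rcases e.ty5 h2 hc na with k | k | k | k
    · exact absurd hfoc (e.p2_false h2 h7 hc na k.1 k.2)
    · exact (e.p3_false h2 hc na k.1 k.2).elim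
    · exact absurd hfoc (k.foc_ne h2 hc na)
    · exact k
  have hS : S ≠ ⊥ := fun k => by
    rw [k, card_bot, eq_comm, Nat.pow_eq_one] at hc
    exact hc.elim hp.out.ne_one (by omega)
  refine CS_self_ne_bot hF.pg hS (le_bot_iff.1 (hcore ▸ le_core (hF.normal_of_base fun P hP => ?_)))
  rcases hP with rfl | hP
  · exact ⟨Fus.CS_le _ _, fun a ha => (chr_CS P).stab (AutF_le_AutOn F P ha)⟩
  · have e : Es F p P := ⟨hF, hP⟩
    have k := all P e
    have := e.finite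
    have := finite_of_le (Phi_le P)
    have h1 : centralizerIn S S ≤ centralizerIn P P := fun y hy =>
      ⟨e.CS_le ⟨hy.1, centralizer_anti e.le hy.2⟩, centralizer_anti e.le hy.2⟩
    have nP := le_normalizer_of_relIndex hF.pg e.le (relIndex_of_card e.le (k := p) (by rw [hc, k.card, pow_succ])).dvd
    have h0 : Phi P ≤ centralizerIn S S := le_inf ((Phi_le P).trans e.le) (le_centralizer_of_card hF.pg
      (fun s hs => maps_cp_iff.1 ((chr_Phi P).2 _ (homOn_cp s _) (maps_cp (nP hs)))) k.cP)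
    refine ⟨h1.trans (Fus.CS_le _ _), fun a ha => ?_⟩
    rcases eq_or_eq_of_relIndex_dvd (relIndex_of_card k.le (k := p) (by rw [k.cZ, k.cP, sq])).dvd h0 h1 with l | l <;>
      rw [l]
    · exact (chr_Phi P).stab (AutF_le_AutOn F P ha)
    · exact (chr_CS P).stab (AutF_le_AutOn F P ha)

end Cfsg.Agent.Fus
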